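import Cfsg.Agent.Lib.Twisted.Simple
import Cfsg.Agent.Lib.Twisted.TorusKer
import Cfsg.Agent.Lib.ChevAut.RootMap
import Cfsg.Agent.Lib.BN.Basic

/-!
Twisted groups: the flips, `U` as a Sylow subgroup, and automorphisms normalising `U` and its
opposite after an inner automorphism.
-/

set_option autoImplicit false
set_option linter.unusedSectionVars false

namespace CfsgLib.TwistOut

open Cfsg.Lie CfsgLib.Chev CfsgLib.Chevalley CfsgLib.Twisted
open CfsgLib.ChevAut (Up Um)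
open scoped Matrix Pointwise

variable {D : ChevalleyDatum} {K : Type*} [Field K]

/-- the standing hypotheses -/
structure Ctx (D : ChevalleyDatum) (T : Tabs) (S : TwistSym D) (H : List ℤ) (Lw : List ℕ) : Prop where
  hc : Checked D T
  comm : CommOne D T
  hS : S.test = true
  hO : S.orbitTest T = true
  hN : S.nodeTest H = true
  hT : S.bnTest = true
  long : S.longTest Lw = true

variable {T : Tabs} {S : TwistSym D} {H : List ℤ} {Lw : List ℕ}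
  (C : Ctx D T S H Lw) (φ : K ≃+* K)

/-- the twisted group -/
noncomputable abbrev Tg : Subgroup (GL D.Idx K) := twistGrp C.hS φ

/-- the part in `U` -/
noncomputable abbrev Uw : Subgroup ↥(Tg C φ) := (Up D K).subgroupOf (Tg C φ)

/-- the part in the opposite group -/
noncomputable abbrev Vw : Subgroup ↥(Tg C φ) := (Um D K).subgroupOf (Tg C φ)

/-- the part in `B` -/
noncomputable abbrev Bw : Subgroup ↥(Tg C φ) := (D.borelSubgroup K).subgroupOf (Tg C φ)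

/-- `n` interchanges the two unipotent subgroups -/
def IsFlip (n : ↥(Tg C φ)) : Prop :=
  (∀ x, n * x * n⁻¹ ∈ Vw C φ ↔ x ∈ Uw C φ) ∧ ∀ x, n * x * n⁻¹ ∈ Uw C φ ↔ x ∈ Vw C φ

/-- `θ` normalises both unipotent subgroups -/
def Std (θ : MulAut ↥(Tg C φ)) : Prop :=
  (∀ x, θ x ∈ Uw C φ ↔ x ∈ Uw C φ) ∧ ∀ x, θ x ∈ Vw C φ ↔ x ∈ Vw C φ

theorem Std.one : Std C φ 1 := ⟨fun _ => Iff.rfl, fun _ => Iff.rfl⟩

theorem Std.mul {θ η : MulAut ↥(Tg C φ)} (h : Std C φ θ) (h' : Std C φ η) : Std C φ (θ * η) :=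
  ⟨fun x => (h.1 (η x)).trans (h'.1 x), fun x => (h.2 (η x)).trans (h'.2 x)⟩

theorem Std.inv {θ : MulAut ↥(Tg C φ)} (h : Std C φ θ) : Std C φ θ⁻¹ := by
  have e : ∀ x, θ (θ⁻¹ x) = x := fun x => θ.apply_symm_apply x
  exact ⟨fun x => by rw [← h.1 (θ⁻¹ x), e], fun x => by rw [← h.2 (θ⁻¹ x), e]⟩

include C

theorem up_eq : D.posUnipotent K = Up D K := posUnipotent_eq C.hc

theorem orbX_ne_one {r : ℕ} (hr : r ∈ S.repList) {t : K} (ht : t ≠ 0) :
    orbX C.hS φ r t ≠ 1 := by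
  intro e
  obtain ⟨hn, hp⟩ := mem_repList hr
  refine ht (split_unique C.hc C.hS C.hO φ ((TwistSym.pos_spec C.hO hn hp).2.1) (List.nodup_singleton r)
    (fun s hs => by rw [List.mem_singleton.1 hs]; exact ⟨hr, rfl⟩)
    (a := fun _ => t) (b := fun _ => 0) (u := 1) (v := 1) (one_mem _) (one_mem _) ?_
    r (List.mem_singleton.2 rfl))
  simp [orbP, e, orbX_zero C.hc C.hS φ hn]

theorem orbX_mem_up {r : ℕ} (hr : r < D.nroots) (hp : D.nroots / 2 ≤ r) (t : K) :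
    orbX C.hS φ r t ∈ Up D K := by
  rw [← up_eq C]
  exact orbX_mem_pos C.hc C.hS φ C.hO hr hp t

theorem orbX_mem_um {r : ℕ} (hr : r < D.nroots) (hp : r < D.nroots / 2) (t : K) :
    orbX C.hS φ r t ∈ Um D K := orbX_mem_neg C.hc C.hS φ C.hO hr hp t

theorem twistN_shape {m : GL D.Idx K} (hm : m ∈ twistN C.hS φ) :
    ∃ (h : GL D.Idx K) (L : List (Fin D.rank)), h ∈ D.diagonalSubgroup K ∧ m = h * nProd D K L ∧
      (∀ r, r < D.nroots → sigs D T L (S.img r) = S.img (sigs D T L r)) ∧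
      ∀ r, r < D.nroots → ∀ t, IsPar S φ r t → ∃ c : Kˣ, IsPar S φ (sigs D T L r) ((c : K) * t) ∧
        m * orbX C.hS φ r t * m⁻¹ = orbX C.hS φ (sigs D T L r) ((c : K) * t) := by
  obtain ⟨h, hh, L, rfl⟩ := monomial_cases C.hc hm.1
  have hf := twistGrp_le_fixed C.hc C.hS φ hm.2
  refine ⟨h, L, hh, rfl, fun r hr => simple_img_image C.hc C.hS φ hh hf hr, fun r hr t ht => ?_⟩
  obtain ⟨c, -, hcx⟩ := nProd_conj_elX C.hc (F := K) L hr
  obtain ⟨d, hd⟩ := diagonal_conj_elX C.hc hh (sigs_lt C.hc L hr)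
  refine ⟨d * c, fixed_orbX_conj C.hc C.hS φ hf hr (sigs_lt C.hc L hr) (c := d * c) (fun s => ?_) ht⟩
  rw [show ∀ a b x : GL D.Idx K, a * b * x * (a * b)⁻¹ = a * (b * x * b⁻¹) * a⁻¹ from
    fun a b x => by group, hcx, hd, Units.val_mul, mul_assoc]

theorem img_iter_side {r : ℕ} (hr : r < D.nroots) (k : ℕ) :
    D.nroots / 2 ≤ S.imgIter k r ↔ D.nroots / 2 ≤ r := by
  induction k with
  | zero => exact Iff.rfl
  | succ k ih =>
    rw [← ih]
    exact ((TwistSym.orbit_spec C.hS (TwistSym.imgIter_lt C.hS hr k)).2.2.1).symm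

theorem sigs_iter {L : List (Fin D.rank)}
    (hL : ∀ r, r < D.nroots → sigs D T L (S.img r) = S.img (sigs D T L r)) {r : ℕ} (hr : r < D.nroots)
    (k : ℕ) : sigs D T L (S.imgIter k r) = S.imgIter k (sigs D T L r) := by
  induction k with
  | zero => rfl
  | succ k ih =>
    show sigs D T L (S.img _) = S.img _
    rw [hL _ (TwistSym.imgIter_lt C.hS hr k), ih]

theorem flip_of {m : ↥(Tg C φ)} (hm : (m : GL D.Idx K) ∈ D.monomialSubgroup K)
    (h : ∀ r ∈ S.repList, (m : GL D.Idx K) * orbX C.hS φ r 1 * (m : GL D.Idx K)⁻¹ ∉ Up D K) :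
    IsFlip C φ m := by
  obtain ⟨d, L, hd, e, heq, hconj⟩ := twistN_shape C φ (m := (m : GL D.Idx K)) ⟨hm, m.2⟩
  have hL : ∀ r, r < D.nroots → D.nroots / 2 ≤ r → sigs D T L r < D.nroots / 2 := by
    intro r hr hp
    obtain ⟨-, -, r₀, hr₀, k, -, rfl⟩ := TwistSym.pos_spec C.hO hr hp
    have h0 := (mem_repList hr₀).1
    rw [sigs_iter C heq h0]
    by_contra hh
    obtain ⟨c, hc', he⟩ := hconj r₀ h0 1 (isPar_one φ _)
    refine h r₀ hr₀ ?_
    rw [he]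
    exact orbX_mem_up C φ (sigs_lt C.hc L h0) ((img_iter_side C (sigs_lt C.hc L h0) k).1 (Nat.not_lt.1 hh)) _
  have hL' : ∀ r, r < D.nroots → r < D.nroots / 2 → D.nroots / 2 ≤ sigs D T L r := by
    intro r hr hneg
    have hnr := neg_lt C.hc hr
    have h1 := hL _ hnr (by
      have := neg_eq C.hc hr; have := nroots_eq_two_mul C.hc; omega)
    rw [sigs_neg C.hc L hr, neg_eq C.hc (sigs_lt C.hc L hr)] at h1
    have := nroots_eq_two_mul C.hc; have := sigs_lt C.hc L hr; omega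
  have key : ∀ {P Q : ℕ → Prop}, (∀ r, r < D.nroots → P r → Q (sigs D T L r)) →
      ∀ x ∈ uGen D K P, (m : GL D.Idx K) * x * (m : GL D.Idx K)⁻¹ ∈ uGen D K Q := by
    intro P Q hPQ x hx
    rw [e, show d * nProd D K L * x * (d * nProd D K L)⁻¹ = d * (nProd D K L * x * (nProd D K L)⁻¹) * d⁻¹
      by group]
    exact diag_conj_mem C.hc _ hd (ChevField.nProd_conj_uGen C.hc L hPQ hx)
  have inv1 : ∀ x : ↥(Tg C φ), x ∈ Uw C φ → m * x * m⁻¹ ∈ Vw C φ := fun x hx =>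
    key (fun r hr hp => hL r hr hp) _ hx
  have inv2 : ∀ x : ↥(Tg C φ), x ∈ Vw C φ → m * x * m⁻¹ ∈ Uw C φ := fun x hx =>
    key (fun r hr hp => hL' r hr hp) _ hx
  have back : ∀ x ∈ Um D K, (m : GL D.Idx K)⁻¹ * x * (m : GL D.Idx K) ∈ Up D K := by
    intro x hx
    rw [e, show (d * nProd D K L)⁻¹ * x * (d * nProd D K L) = (nProd D K L)⁻¹ * (d⁻¹ * x * d) * nProd D K L
      by group]
    exact ChevAut.mem_pos_of_flipped C.hc hL (diag_conj_mem' C.hc _ hd hx)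
  refine ⟨fun x => ⟨fun hx => ?_, inv1 x⟩, fun x => ⟨fun hx => ?_, inv2 x⟩⟩
  · have := back _ (Subgroup.mem_subgroupOf.1 hx)
    simpa [Subgroup.mem_subgroupOf, mul_assoc] using this
  · have hdd : nProd D K L * nProd D K L ∈ D.diagonalSubgroup K := by
      rw [← nProd_append]
      refine nProd_mem_of_pos C.hc (L ++ L) fun i => ?_
      rw [sigs_append]
      exact hL' _ (sigs_lt C.hc L (simple_lt C.hc i.2)) (hL _ (simple_lt C.hc i.2) (half_le_simple C.hc i.2))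
    have h1 := key (P := fun r => D.nroots / 2 ≤ r) (Q := fun r => r < D.nroots / 2) hL _
      (Subgroup.mem_subgroupOf.1 hx)
    have hmm : (m : GL D.Idx K) * m ∈ D.diagonalSubgroup K := by
      rw [e, show d * nProd D K L * (d * nProd D K L) =
        d * (nProd D K L * d * (nProd D K L)⁻¹) * (nProd D K L * nProd D K L) by group]
      exact mul_mem (mul_mem hd (monomial_conj_diagonal C.hc (nProd_mem_monomial C.hc L) hd)) hdd
    have h2 := diag_conj_mem' C.hc _ hmm h1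
    simpa [Subgroup.mem_subgroupOf, mul_assoc] using h2

theorem not_mem_up_of_um {x : GL D.Idx K} (hx : x ∈ Um D K) (hne : x ≠ 1) : x ∉ Up D K :=
  fun h => hne (ChevAut.pos_inf_neg C.hc h hx)

theorem exists_flip : ∃ n : ↥(Tg C φ), (n : GL D.Idx K) ∈ D.monomialSubgroup K ∧ IsFlip C φ n ∧
    ∀ r, r < D.nroots → ∀ t, IsPar S φ r t → ∃ u, IsPar S φ (S.wWord Lw r) u ∧ (u = t ∨ u = -t) ∧
      (n : GL D.Idx K) * orbX C.hS φ r t * (n : GL D.Idx K)⁻¹ = orbX C.hS φ (S.wWord Lw r) u := by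
  have hL := C.long
  simp only [TwistSym.longTest, Bool.and_eq_true, decide_eq_true_eq] at hL
  have hex : ∃ n ∈ twistN C.hS φ, ∀ r, r < D.nroots → S.wWord Lw r < D.nroots ∧ ∀ t, IsPar S φ r t →
      ∃ u, IsPar S φ (S.wWord Lw r) u ∧ (u = t ∨ u = -t) ∧
        n * orbX C.hS φ r t * n⁻¹ = orbX C.hS φ (S.wWord Lw r) u := by
    suffices hw : ∀ (L : List ℕ), (∀ i ∈ L, i < D.rank) → ∃ n ∈ twistN C.hS φ, ∀ r, r < D.nroots →
        S.wWord L r < D.nroots ∧ ∀ t, IsPar S φ r t →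
          ∃ u, IsPar S φ (S.wWord L r) u ∧ (u = t ∨ u = -t) ∧
            n * orbX C.hS φ r t * n⁻¹ = orbX C.hS φ (S.wWord L r) u from hw Lw hL.1
    intro L
    induction L with
    | nil => exact fun _ => ⟨1, one_mem _, fun r hr => ⟨hr, fun t ht =>
        ⟨t, ht, Or.inl rfl, by simp [TwistSym.wWord]⟩⟩⟩
    | cons i L ih =>
      intro hL
      rw [List.forall_mem_cons] at hL
      obtain ⟨n, hn, h⟩ := ih hL.2
      refine ⟨nOrb C.hS φ i * n,
        mul_mem ⟨nOrb_mem_monomial C.hc C.hS φ hL.1, nOrb_mem C.hc C.hS φ C.hN hL.1⟩ hn, fun r hr => ?_⟩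
      obtain ⟨hlt, hu⟩ := h r hr
      refine ⟨wO_lt C.hc C.hS hL.1 hlt, fun t ht => ?_⟩
      obtain ⟨u, hu', hut, heq⟩ := hu t ht
      obtain ⟨-, -, e, he, hu2, heq'⟩ := nOrb_conj C.hc C.hS φ C.hN hL.1 hlt hu'
      refine ⟨_, hu2, ?_, ?_⟩
      · rcases he with rfl | rfl <;> rcases hut with rfl | rfl <;> simp
      · rw [show ∀ m k x : GL D.Idx K, m * k * x * (m * k)⁻¹ = m * (k * x * k⁻¹) * m⁻¹ from
          fun m k x => by group, heq, heq']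
        rfl
  obtain ⟨n, hn, hn'⟩ := hex
  refine ⟨⟨n, hn.2⟩, hn.1, flip_of C φ hn.1 fun r hr => ?_, fun r hr t ht => (hn' r hr).2 t ht⟩
  obtain ⟨u, -, hut, e⟩ := (hn' r (mem_repList hr).1).2 1 (isPar_one φ _)
  refine not_mem_up_of_um C ?_ ?_
  · show n * _ * n⁻¹ ∈ _
    rw [e]
    exact orbX_mem_um C φ (hn' r (mem_repList hr).1).1 (hL.2 r hr) u
  · rw [Ne, conj_eq_one_iff]
    exact orbX_ne_one C φ hr one_ne_zero

theorem exists_P : ∃ P : Cfsg.BNPair ↥(Tg C φ), P.B = Bw C φ ∧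
    P.N = (D.monomialSubgroup K).subgroupOf (Tg C φ) ∧
    P.S = {n : ↥(Tg C φ) | ∃ i ∈ S.repNodes, (n : GL D.Idx K) = nOrb C.hS φ i} := by
  obtain ⟨P, hB, hN, hS'⟩ := exists_twist_bnPair C.hc C.hS φ C.hO C.hN C.hT C.comm (G := Tg C φ) rfl
  exact ⟨P, by rw [hB, Subgroup.inf_subgroupOf_right], by rw [hN, Subgroup.inf_subgroupOf_right], hS'⟩

theorem exists_bruhat (g : ↥(Tg C φ)) : ∃ b ∈ Bw C φ, ∃ n : ↥(Tg C φ),
    (n : GL D.Idx K) ∈ D.monomialSubgroup K ∧ ∃ b' ∈ Bw C φ, g = b * n * b' := by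
  obtain ⟨P, hB, hN, -⟩ := exists_P C φ
  obtain ⟨w, hw⟩ := CfsgLib.BN.exists_cell P g
  obtain ⟨n, hn, rfl⟩ := CfsgLib.BN.exists_rep P w
  obtain ⟨b, hb, b', hb', e⟩ := (CfsgLib.BN.mem_cell_wk P hn).1 hw
  exact ⟨b, hB ▸ hb, n, Subgroup.mem_subgroupOf.1 (hN ▸ hn), b', hB ▸ hb', e⟩

theorem B_conj_U {b x : ↥(Tg C φ)} (hb : b ∈ Bw C φ) (hx : x ∈ Uw C φ) : b * x * b⁻¹ ∈ Uw C φ :=
  borel_conj_pos C.hc (Subgroup.mem_subgroupOf.1 hb) (Subgroup.mem_subgroupOf.1 hx)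

theorem U_le_B : Uw C φ ≤ Bw C φ := fun _ hx => pos_le_borel C.hc (Subgroup.mem_subgroupOf.1 hx)

theorem U_inf_V {x : ↥(Tg C φ)} (h : x ∈ Uw C φ) (h' : x ∈ Vw C φ) : x = 1 :=
  Subtype.ext (ChevAut.pos_inf_neg C.hc (Subgroup.mem_subgroupOf.1 h) (Subgroup.mem_subgroupOf.1 h'))

theorem B_inf_V {x : ↥(Tg C φ)} (h : x ∈ Bw C φ) (h' : x ∈ Vw C φ) : x = 1 :=
  Subtype.ext (borel_inf_neg C.hc (Subgroup.mem_subgroupOf.1 h) (Subgroup.mem_subgroupOf.1 h'))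

theorem mem_B_of_conj {g : ↥(Tg C φ)} (h : ∀ x ∈ Uw C φ, g * x * g⁻¹ ∈ Bw C φ) : g ∈ Bw C φ := by
  obtain ⟨b, hb, n, hn, b', hb', rfl⟩ := exists_bruhat C φ g
  refine mul_mem (mul_mem hb ?_) hb'
  obtain ⟨d, L, hd, e, heq, hconj⟩ := twistN_shape C φ (m := (n : GL D.Idx K)) ⟨hn, n.2⟩
  show (n : GL D.Idx K) ∈ D.borelSubgroup K
  rw [e]
  refine mul_mem (diagonal_le_borel C.hc hd) (diagonal_le_borel C.hc (nProd_mem_of_pos C.hc L fun j => ?_))
  obtain ⟨i, hi, k, -, hk⟩ := TwistSym.node_cover C.hT j.2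
  have hi' := (mem_repNodes hi).1
  have hp := simple_lt C.hc hi'
  rw [← hk, sigs_iter C heq hp, img_iter_side C (sigs_lt C.hc L hp)]
  by_contra hneg
  obtain ⟨c, hcp, he⟩ := hconj _ hp 1 (isPar_one φ _)
  let x : ↥(Tg C φ) := ⟨_, orbX_simple_mem hi' (isPar_one φ _)⟩
  have hx : x ∈ Uw C φ := orbX_mem_up C φ hp (half_le_simple C.hc hi') _
  have hx' : b'⁻¹ * x * b' ∈ Uw C φ := by
    simpa using B_conj_U C φ (inv_mem hb') hx
  have h1 := mul_mem (mul_mem (inv_mem hb) (h _ hx')) hb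
  rw [show b⁻¹ * (b * n * b' * (b'⁻¹ * x * b') * (b * n * b')⁻¹) * b = n * x * n⁻¹ by group] at h1
  have h2 : n * x * n⁻¹ ∈ Vw C φ := by
    show (n : GL D.Idx K) * orbX C.hS φ (D.simple i) 1 * (n : GL D.Idx K)⁻¹ ∈ Um D K
    rw [he]
    exact orbX_mem_um C φ (sigs_lt C.hc L hp) (Nat.not_le.1 hneg) _
  have h3 := B_inf_V C φ h1 h2
  rw [conj_eq_one_iff] at h3
  exact orbX_simple_ne_one C.hc C.hS φ C.hO hi one_ne_zero (congrArg Subtype.val h3)

theorem mem_B_iff (g : ↥(Tg C φ)) : g ∈ Bw C φ ↔ ∀ x ∈ Uw C φ, g * x * g⁻¹ ∈ Uw C φ :=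
  ⟨fun hb _ hx => B_conj_U C φ hb hx, fun h => mem_B_of_conj C φ fun x hx => U_le_B C φ (h x hx)⟩

theorem B_conj_U_iff {b : ↥(Tg C φ)} (hb : b ∈ Bw C φ) (x : ↥(Tg C φ)) :
    b * x * b⁻¹ ∈ Uw C φ ↔ x ∈ Uw C φ :=
  ⟨fun h => by simpa [mul_assoc] using B_conj_U C φ (inv_mem hb) h, B_conj_U C φ hb⟩

theorem sylow_U [Finite K] (p : ℕ) [Fact p.Prime] [CharP K p] :
    ∃ P : Sylow p ↥(Tg C φ), (P : Subgroup ↥(Tg C φ)) = Uw C φ := by
  classical
  have hU : IsPGroup p (Uw C φ) :=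
    (Chev.isPGroup_pos C.hc (F := K) p).of_injective
      (⟨⟨fun x => ⟨((x : ↥(Tg C φ)) : GL D.Idx K), x.2⟩, rfl⟩, fun _ _ => rfl⟩ : ↥(Uw C φ) →* ↥(Up D K))
      fun x y e => Subtype.ext (Subtype.ext (congrArg (fun z : ↥(Up D K) => z.1) e))
  have hUB := U_le_B C φ
  have hmod := hU.card_modEq_card_fixedPoints (α := ↥(Tg C φ) ⧸ Bw C φ)
  have hfix : MulAction.fixedPoints (Uw C φ) (↥(Tg C φ) ⧸ Bw C φ) =
      {((1 : ↥(Tg C φ)) : ↥(Tg C φ) ⧸ Bw C φ)} := by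
    ext q
    induction q using QuotientGroup.induction_on with | H g => ?_
    rw [MulAction.mem_fixedPoints, Set.mem_singleton_iff, QuotientGroup.eq, mul_one]
    constructor
    · intro h
      refine mem_B_of_conj C φ fun x hx => ?_
      have h1 : (((x⁻¹ * g : ↥(Tg C φ))) : ↥(Tg C φ) ⧸ Bw C φ) = (g : ↥(Tg C φ) ⧸ Bw C φ) :=
        h ⟨x⁻¹, inv_mem hx⟩
      rw [QuotientGroup.eq] at h1
      simpa [mul_assoc] using h1
    · intro h u
      show ((((u : ↥(Tg C φ)) * g : ↥(Tg C φ))) : ↥(Tg C φ) ⧸ Bw C φ) = (g : ↥(Tg C φ) ⧸ Bw C φ)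
      rw [QuotientGroup.eq]
      have hg : g ∈ Bw C φ := inv_mem_iff.1 h
      exact mul_mem (inv_mem (mul_mem (hUB u.2) hg)) hg
  have hidx : ¬ p ∣ (Bw C φ).index := by
    intro hd
    rw [hfix, Nat.card_coe_set_eq, Set.ncard_singleton, ← Subgroup.index_eq_card] at hmod
    have h1 := (Nat.modEq_zero_iff_dvd.2 hd).symm.trans hmod
    exact (Fact.out : p.Prime).one_lt.ne' (Nat.dvd_one.1 (Nat.modEq_zero_iff_dvd.1 h1.symm))
  have hrel : ¬ p ∣ (Uw C φ).relIndex (Bw C φ) := by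
    intro hd
    set Hw : Subgroup ↥(Tg C φ) := (D.diagonalSubgroup K).subgroupOf (Tg C φ)
    have hcard : Nat.card (Bw C φ) = Nat.card (Uw C φ) * Nat.card Hw := by
      rw [← Nat.card_prod]
      refine (Nat.card_congr (Equiv.ofBijective (fun q : ↥(Uw C φ) × ↥Hw => (⟨q.1.1 * q.2.1,
        mul_mem (hUB q.1.2) (diagonal_le_borel C.hc (Subgroup.mem_subgroupOf.1 q.2.2))⟩ : ↥(Bw C φ)))
        ⟨?_, ?_⟩)).symm
      · rintro ⟨⟨u, hu⟩, ⟨h, hh⟩⟩ ⟨⟨v, hv⟩, ⟨k, hk⟩⟩ e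
        have e' : u * h = v * k := congrArg Subtype.val e
        have h1 : v⁻¹ * u = k * h⁻¹ := by
          rw [show v⁻¹ * u = v⁻¹ * (u * h) * h⁻¹ by group, e']; group
        obtain rfl : v = u := inv_mul_eq_one.1 (Subtype.ext
          (pos_inf_diag C.hc (Subgroup.mem_subgroupOf.1 (mul_mem (inv_mem hv) hu))
            (h1 ▸ Subgroup.mem_subgroupOf.1 (mul_mem hk (inv_mem hh)))))
        obtain rfl : h = k := mul_left_cancel e'
        rfl
      · rintro ⟨g, hg⟩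
        obtain ⟨u, hu, h, hh, e⟩ :=
          twistB_split C.hc C.hS φ C.hO C.hN C.comm (b := (g : GL D.Idx K)) ⟨hg, g.2⟩
        exact ⟨⟨⟨⟨u, posU_fixed_le C.hc C.comm C.hS C.hO φ C.hN hu⟩, by
            show u ∈ Up D K
            rw [← up_eq C]; exact hu.1⟩,
          ⟨⟨h, hh.2⟩, hh.1⟩⟩, Subtype.ext (Subtype.ext e.symm)⟩
    have h2 := Subgroup.card_mul_index ((Uw C φ).subgroupOf (Bw C φ))
    rw [Nat.card_congr (Subgroup.subgroupOfEquivOfLe hUB).toEquiv, hcard] at h2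
    rw [Subgroup.relIndex, Nat.eq_of_mul_eq_mul_left Nat.card_pos h2] at hd
    exact ChevAut.diagonal_card_coprime C.hc p (hd.trans (Subgroup.card_dvd_of_injective
      (⟨⟨fun x => ⟨((x : ↥(Tg C φ)) : GL D.Idx K), x.2⟩, rfl⟩, fun _ _ => rfl⟩ : ↥Hw →* ↥(D.diagonalSubgroup K))
      fun x y e => Subtype.ext (Subtype.ext (congrArg (fun z : ↥(D.diagonalSubgroup K) => z.1) e))))
  have hUidx : ¬ p ∣ (Uw C φ).index := by
    rw [← Subgroup.relIndex_mul_index hUB]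
    exact fun h => ((Fact.out : p.Prime).dvd_mul.1 h).elim hrel hidx
  exact ⟨hU.toSylow hUidx, rfl⟩

/-- every automorphism becomes standard after an inner one -/
theorem exists_std [Finite K] (θ : MulAut ↥(Tg C φ)) :
    ∃ x : ↥(Tg C φ), Std C φ (MulAut.conj x * θ) := by
  classical
  obtain ⟨p, hchar⟩ := CharP.exists K
  haveI : Fact p.Prime := ⟨CharP.char_is_prime K p⟩
  obtain ⟨P, hP⟩ := sylow_U C φ p
  let Q : Sylow p ↥(Tg C φ) := (P.isPGroup'.map θ.toMonoidHom).toSylow (by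
    rw [show (P : Subgroup ↥(Tg C φ)).map θ.toMonoidHom =
      (P : Subgroup ↥(Tg C φ)).map (θ : ↥(Tg C φ) →* ↥(Tg C φ)) from rfl, Subgroup.index_map_equiv]
    exact P.not_dvd_index)
  have hQ : (Q : Subgroup ↥(Tg C φ)) = (P : Subgroup ↥(Tg C φ)).map θ.toMonoidHom := rfl
  obtain ⟨g, hg⟩ := MulAction.exists_smul_eq ↥(Tg C φ) Q P
  set η := MulAut.conj g * θ with hη
  have hU : ∀ x, η x ∈ Uw C φ ↔ x ∈ Uw C φ := by
    intro x
    have h1 : η x ∈ (P : Subgroup ↥(Tg C φ)) ↔ θ x ∈ (Q : Subgroup ↥(Tg C φ)) := by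
      rw [← hg, Sylow.coe_subgroup_smul, Subgroup.mem_pointwise_smul_iff_inv_smul_mem]
      simp [hη, mul_assoc]
    rwa [hQ, Subgroup.mem_map_equiv, θ.symm_apply_apply, hP] at h1
  obtain ⟨n, -, hn, -⟩ := exists_flip C φ
  obtain ⟨b, hb, k, hk, b', hb', e⟩ := exists_bruhat C φ (η n)
  have hkflip : IsFlip C φ k := by
    refine flip_of C φ hk fun r hr hmem => ?_
    let x : ↥(Tg C φ) := ⟨_, orbX_mem C.hc C.hS φ C.hN (mem_repList hr).1 (isPar_one φ r)⟩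
    have hx : b'⁻¹ * x * b' ∈ Uw C φ := (B_conj_U_iff C φ (b := b'⁻¹) (inv_mem hb') x).2
      (orbX_mem_up C φ (mem_repList hr).1 (mem_repList hr).2 _) |> fun h => by simpa using h
    obtain ⟨z, hz⟩ := η.surjective (b'⁻¹ * x * b')
    have hzU : z ∈ Uw C φ := (hU z).1 (hz ▸ hx)
    have h1 : η (n * z * n⁻¹) ∈ Uw C φ := by
      rw [map_mul, map_mul, map_inv, e, hz,
        show b * k * b' * (b'⁻¹ * x * b') * (b * k * b')⁻¹ = b * (k * x * k⁻¹) * b⁻¹ by group]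
      exact B_conj_U C φ hb hmem
    have h2 := U_inf_V C φ ((hU _).1 h1) ((hn.1 z).2 hzU)
    rw [conj_eq_one_iff] at h2
    rw [h2, map_one] at hz
    have h3 : x = 1 := by
      calc x = b' * (b'⁻¹ * x * b') * b'⁻¹ := by group
        _ = 1 := by rw [← hz]; group
    exact orbX_ne_one C φ hr one_ne_zero (congrArg Subtype.val h3)
  refine ⟨b⁻¹ * g, ?_⟩
  have happ : ∀ x, (MulAut.conj (b⁻¹ * g) * θ) x = b⁻¹ * η x * b := fun x => by
    simp [hη, mul_assoc]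
  refine ⟨fun x => ?_, fun x => ?_⟩
  · rw [happ, ← hU x]
    simpa using B_conj_U_iff C φ (inv_mem hb) (η x)
  · set z := n⁻¹ * x * n with hz
    have hx : x = n * z * n⁻¹ := by rw [hz]; group
    rw [happ, hx, hn.1, ← hU z, map_mul, map_mul, map_inv, e,
      show b⁻¹ * (b * k * b' * η z * (b * k * b')⁻¹) * b = k * (b' * η z * b'⁻¹) * k⁻¹ by group, hkflip.1,
      B_conj_U_iff C φ hb']

end CfsgLib.TwistOut
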