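import Cfsg.Agent.Lib.TwistOut.Shape
import Cfsg.Agent.Lib.Semilinear.NormalAbelian
import Cfsg.Prelude.Def_KGroupFacts

/-!
Twisted groups: diagonal and field automorphisms and the order of the outer automorphism group.
-/

set_option autoImplicit false
set_option linter.unusedSectionVars false

namespace CfsgLib.TwistOut

open Cfsg.Lie CfsgLib.Chev CfsgLib.Chevalley CfsgLib.Twisted
open CfsgLib.ChevAut (Up Um)
open scoped Matrix

/-- automorphisms preserving a subgroup, restricted to it -/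
def restrictHom {A M : Type*} [Group A] [Group M] (G : Subgroup M) (Φ : A →* MulAut M)
    (h : ∀ a, ∀ g ∈ G, Φ a g ∈ G) : A →* MulAut ↥G where
  toFun a :=
    { toFun := fun g => ⟨Φ a g, h a g g.2⟩
      invFun := fun g => ⟨Φ a⁻¹ g, h a⁻¹ g g.2⟩
      left_inv := fun g => Subtype.ext (by
        show Φ a⁻¹ (Φ a g) = _
        rw [← MulAut.mul_apply, ← map_mul, inv_mul_cancel, map_one, MulAut.one_apply])
      right_inv := fun g => Subtype.ext (by
        show Φ a (Φ a⁻¹ g) = _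
        rw [← MulAut.mul_apply, ← map_mul, mul_inv_cancel, map_one, MulAut.one_apply])
      map_mul' := fun g g' => Subtype.ext (map_mul (Φ a) _ _) }
  map_one' := MulEquiv.ext fun g => Subtype.ext (by show Φ 1 g = _; rw [map_one]; rfl)
  map_mul' a b := MulEquiv.ext fun g => Subtype.ext (by show Φ (a * b) g = _; rw [map_mul]; rfl)

theorem restrictHom_apply {A M : Type*} [Group A] [Group M] (G : Subgroup M) (Φ : A →* MulAut M)
    (h : ∀ a, ∀ g ∈ G, Φ a g ∈ G) (a : A) (g : ↥G) :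
    ((restrictHom G Φ h a g : ↥G) : M) = Φ a g := rfl

variable {D : ChevalleyDatum} {K : Type*} [Field K] {T : Tabs} {S : TwistSym D} {H : List ℤ}
  {Lw : List ℕ}

/-- the field automorphisms of the general linear group -/
noncomputable def glField (D : ChevalleyDatum) (K : Type*) [Field K] :
    RingAut K →* MulAut (GL D.Idx K) where
  toFun σ := Chevalley.glFieldEquiv D.Idx σ
  map_one' := MulEquiv.ext fun g => Units.ext (by rw [glFieldEquiv_coe]; ext; rfl)
  map_mul' σ τ := MulEquiv.ext fun g => Units.ext (by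
    rw [MulAut.mul_apply, glFieldEquiv_coe, glFieldEquiv_coe, glFieldEquiv_coe]; ext; rfl)

theorem ringAut_comm [Finite K] (σ τ : RingAut K) (x : K) : σ (τ x) = τ (σ x) := by
  haveI : Fintype K := Fintype.ofFinite K
  obtain ⟨p, hp⟩ := CharP.exists K
  haveI : Fact p.Prime := ⟨CharP.char_is_prime K p⟩
  obtain ⟨n, -, hn⟩ := FiniteField.card K p
  haveI : IsCyclic (RingAut K) := (Semilinear.isCyclic_ringEquiv_and_card hn).1
  letI := IsCyclic.commGroup (α := RingAut K)
  exact DFunLike.congr_fun (mul_comm σ τ) x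

theorem isPar_field [Finite K] (φ : K ≃+* K) (σ : RingAut K) {r : ℕ} {t : K} (ht : IsPar S φ r t) :
    IsPar S φ r (σ t) := by
  simp only [IsPar] at *
  have : ∀ n, (⇑φ)^[n] (σ t) = σ ((⇑φ)^[n] t) := fun n => by
    induction n with
    | zero => rfl
    | succ n ih => rw [Function.iterate_succ_apply', Function.iterate_succ_apply', ih, ringAut_comm σ φ]
  rw [this, ht]

variable (C : Ctx D T S H Lw) (φ : K ≃+* K)

theorem glField_elX (C : Ctx D T S H Lw) (σ : RingAut K) {r : ℕ} (hr : r < D.nroots) (t : K) :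
    glField D K σ (elX D K r t) = elX D K r (σ t) := by
  refine Units.ext ?_
  rw [coe_elX C.hc K hr]
  refine Eq.trans ?_ (Chevalley.x_map_ringHom D σ.toRingHom r t)
  rw [← coe_elX C.hc K hr]
  rfl

theorem glField_orbX [Finite K] (σ : RingAut K) {r : ℕ} (hr : r < D.nroots) (t : K) :
    glField D K σ (orbX C.hS φ r t) = orbX C.hS φ r (σ t) := by
  rw [orbX_eq_prod C.hc C.hS φ hr, orbX_eq_prod C.hc C.hS φ hr, map_list_prod, List.map_map]
  congr 1
  refine List.map_congr_left fun k _ => ?_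
  show glField D K σ (elX D K _ _) = _
  rw [glField_elX C σ (TwistSym.imgIter_lt C.hS hr k), map_mul, map_intCast]
  congr 2
  have : ∀ n, σ ((⇑φ)^[n] t) = (⇑φ)^[n] (σ t) := fun n => by
    induction n with
    | zero => rfl
    | succ n ih => rw [Function.iterate_succ_apply', Function.iterate_succ_apply', ringAut_comm σ φ, ih]
  exact this k

/-- conjugation by the diagonal matrices of the fixed parameters -/
noncomputable def diagGL : ↥(fixPar C.hS φ) →* MulAut (GL D.Idx K) :=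
  MulAut.conj.comp ((torus D T K).comp (fixPar C.hS φ).subtype)

theorem diagGL_orbX (a : ↥(fixPar C.hS φ)) {i : Fin D.rank} {t : K} :
    diagGL C φ a (orbX C.hS φ (D.simple i) t) = orbX C.hS φ (D.simple i) ((a.1 i : K) * t) ∧
      diagGL C φ a (orbX C.hS φ (D.neg (D.simple i)) t) =
        orbX C.hS φ (D.neg (D.simple i)) ((((a.1 i)⁻¹ : Kˣ) : K) * t) := by
  have hp := simple_lt C.hc i.2
  have hch : ∀ k, chi a.1 (rv D T (S.imgIter k (D.simple i))) = a.1 (iterNode C.hS k i) := fun k => by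
    rw [iterNode_simple C.hc C.hS k i, rv_simple C.hc, chi_single, zpow_one]
  have hit : ∀ k, ((a.1 (iterNode C.hS k i) : Kˣ) : K) = (⇑φ)^[k] (a.1 i : K) :=
    fun k => fixPar_iter C.hc C.hS φ a.2 i k
  constructor
  · rw [orbX_eq_prod C.hc C.hS φ hp, orbX_eq_prod C.hc C.hS φ hp, map_list_prod, List.map_map]
    congr 1
    refine List.map_congr_left fun k _ => ?_
    show torus D T K a.1 * elX D K _ _ * (torus D T K a.1)⁻¹ = _
    rw [torus_conj_elX C.hc _ (TwistSym.imgIter_lt C.hS hp k), hch, hit, iterate_map_mul]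
    congr 1; ring
  · have hn := neg_lt C.hc hp
    rw [orbX_eq_prod C.hc C.hS φ hn, orbX_eq_prod C.hc C.hS φ hn, map_list_prod, List.map_map]
    congr 1
    refine List.map_congr_left fun k _ => ?_
    show torus D T K a.1 * elX D K _ _ * (torus D T K a.1)⁻¹ = _
    have hinv : (((a.1 (iterNode C.hS k i))⁻¹ : Kˣ) : K) = (⇑φ)^[k] (((a.1 i)⁻¹ : Kˣ) : K) :=
      fixPar_iter C.hc C.hS φ (inv_mem a.2) i k
    have himg : S.imgIter k (D.neg (D.simple i)) = D.neg (S.imgIter k (D.simple i)) := by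
      obtain ⟨-, h1, h2, -⟩ := TwistSym.imgIter_simple C.hc C.hS i.2 k
      rw [h1, h2]
    rw [torus_conj_elX C.hc _ (TwistSym.imgIter_lt C.hS hn k), himg,
      rv_neg C.hc (TwistSym.imgIter_lt C.hS hp k), chi_neg, hch, hinv, iterate_map_mul]
    congr 1; ring

theorem glField_mem [Finite K] (C : Ctx D T S H Lw) (σ : RingAut K) :
    ∀ g ∈ Tg C φ, glField D K σ g ∈ Tg C φ := by
  have hle : Tg C φ ≤ (Tg C φ).comap (glField D K σ).toMonoidHom := by
    refine (Subgroup.closure_le _).mpr ?_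
    rintro g ⟨i, hi, r, hr, t, ht, rfl⟩
    have hrn : r < D.nroots := by
      rcases hr with rfl | rfl
      exacts [simple_lt C.hc hi, neg_lt C.hc (simple_lt C.hc hi)]
    show glField D K σ (orbX C.hS φ r t) ∈ Tg C φ
    rw [glField_orbX C φ σ hrn]
    exact orbX_mem C.hc C.hS φ C.hN hrn (isPar_field φ σ ht)
  exact fun g hg => hle hg

theorem diagGL_mem (a : ↥(fixPar C.hS φ)) : ∀ g ∈ Tg C φ, diagGL C φ a g ∈ Tg C φ := by
  have hle : Tg C φ ≤ (Tg C φ).comap (diagGL C φ a).toMonoidHom := by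
    refine (Subgroup.closure_le _).mpr ?_
    rintro g ⟨i, hi, r, hr, t, ht, rfl⟩
    show diagGL C φ a (orbX C.hS φ r t) ∈ Tg C φ
    rcases hr with rfl | rfl
    · rw [(diagGL_orbX C φ a (i := ⟨i, hi⟩)).1]
      refine orbX_simple_mem hi ?_
      have h1 := fixPar_isPar C.hc C.hS φ a.2 ⟨i, hi⟩
      simp only [IsPar] at h1 ht ⊢
      rw [iterate_map_mul, h1, ht]
    · rw [(diagGL_orbX C φ a (i := ⟨i, hi⟩)).2]
      refine orbX_neg_simple_mem hi ?_
      have h1 := fixPar_isPar C.hc C.hS φ (inv_mem a.2) ⟨i, hi⟩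
      simp only [IsPar] at h1 ht ⊢
      rw [TwistSym.olen_neg C.hc C.hS (simple_lt C.hc hi)] at ht ⊢
      rw [Pi.inv_apply] at h1
      rw [iterate_map_mul, h1, ht]
  exact fun g hg => hle hg

/-- the diagonal automorphisms -/
noncomputable def diagAut : ↥(fixPar C.hS φ) →* MulAut ↥(Tg C φ) :=
  restrictHom (Tg C φ) (diagGL C φ) (diagGL_mem C φ)

/-- the field automorphisms -/
noncomputable def fieldAut [Finite K] : RingAut K →* MulAut ↥(Tg C φ) :=
  restrictHom (Tg C φ) (glField D K) fun σ => glField_mem φ C σ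

include C

theorem diagAut_std (a : ↥(fixPar C.hS φ)) : Std C φ (diagAut C φ a) := by
  have h : ∀ (b : ↥(fixPar C.hS φ)) (P : ℕ → Prop), ∀ g ∈ uGen D K P, diagGL C φ b g ∈ uGen D K P := by
    intro b P
    have hle : uGen D K P ≤ (uGen D K P).comap (diagGL C φ b).toMonoidHom := by
      rw [uGen_le_iff]
      intro r hr hP t
      show torus D T K b.1 * elX D K r t * (torus D T K b.1)⁻¹ ∈ uGen D K P
      rw [torus_conj_elX C.hc _ hr]
      exact elX_mem_uGen hr hP _
    exact fun g hg => hle hg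
  constructor <;> intro x <;>
    refine ⟨fun hx => ?_, fun hx => h a _ _ hx⟩ <;>
    · have := h a⁻¹ _ _ hx
      rwa [diagAut, Subgroup.subtype_apply, restrictHom_apply, ← MulAut.mul_apply, ← map_mul, inv_mul_cancel, map_one,
        MulAut.one_apply] at this

theorem fieldAut_std [Finite K] (σ : RingAut K) : Std C φ (fieldAut C φ σ) := by
  have h : ∀ (τ : RingAut K) (P : ℕ → Prop), ∀ g ∈ uGen D K P, glField D K τ g ∈ uGen D K P := by
    intro τ P
    have hle : uGen D K P ≤ (uGen D K P).comap (glField D K τ).toMonoidHom := by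
      rw [uGen_le_iff]
      intro r hr hP t
      show glField D K τ (elX D K r t) ∈ uGen D K P
      rw [glField_elX C τ hr]
      exact elX_mem_uGen hr hP _
    exact fun g hg => hle hg
  constructor <;> intro x <;>
    refine ⟨fun hx => ?_, fun hx => h σ _ _ hx⟩ <;>
    · have := h σ⁻¹ _ _ hx
      rwa [fieldAut, Subgroup.subtype_apply, restrictHom_apply, ← MulAut.mul_apply, ← map_mul, inv_mul_cancel, map_one,
        MulAut.one_apply] at this

theorem diagAut_X (a : ↥(fixPar C.hS φ)) {J : RN S} {t : K} (ht : Par φ J t) :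
    diagAut C φ a (X C φ J t) = X C φ J ((a.1 J.1 : K) * t) ∧
      diagAut C φ a (Y C φ J t) = Y C φ J ((((a.1 J.1)⁻¹ : Kˣ) : K) * t) := by
  have h1 : Par φ J (a.1 J.1 : K) := fixPar_isPar C.hc C.hS φ a.2 J.1
  have h2 : Par φ J ((((a.1 J.1)⁻¹ : Kˣ) : K)) := fixPar_isPar C.hc C.hS φ (inv_mem a.2) J.1
  exact ⟨Subtype.ext (by rw [diagAut, restrictHom_apply, coe_X C φ ht, coe_X C φ (h1.mul ht),
      (diagGL_orbX C φ a).1]),
    Subtype.ext (by rw [diagAut, restrictHom_apply, coe_Y C φ ht, coe_Y C φ (h2.mul ht),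
      (diagGL_orbX C φ a).2])⟩

theorem fieldAut_X [Finite K] (σ : RingAut K) {J : RN S} {t : K} (ht : Par φ J t) :
    fieldAut C φ σ (X C φ J t) = X C φ J (σ t) ∧ fieldAut C φ σ (Y C φ J t) = Y C φ J (σ t) := by
  have hσ : Par φ J (σ t) := isPar_field φ σ ht
  exact ⟨Subtype.ext (by rw [fieldAut, restrictHom_apply, coe_X C φ ht, coe_X C φ hσ,
      glField_orbX C φ σ (simple_lt C.hc J.1.2)]),
    Subtype.ext (by rw [fieldAut, restrictHom_apply, coe_Y C φ ht, coe_Y C φ hσ,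
      glField_orbX C φ σ (neg_lt C.hc (simple_lt C.hc J.1.2))])⟩

theorem tw_ext {θ η : MulAut ↥(Tg C φ)}
    (h : ∀ (J : RN S) (t : K), Par φ J t →
      θ (X C φ J t) = η (X C φ J t) ∧ θ (Y C φ J t) = η (Y C φ J t)) : θ = η := by
  set E := (MonoidHom.eqLocus θ.toMonoidHom η.toMonoidHom).map (Tg C φ).subtype
  have hle : Tg C φ ≤ E := by
    refine (Subgroup.closure_le _).mpr ?_
    rintro g ⟨i, hi, r, hr, t, ht, rfl⟩
    obtain ⟨i₀, hi₀, k, -, hk⟩ := TwistSym.node_cover C.hT hi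
    let J : RN S := ⟨⟨i₀, (mem_repNodes hi₀).1⟩, hi₀⟩
    have hp := simple_lt C.hc J.1.2
    rcases hr with rfl | rfl
    · rw [← hk] at ht ⊢
      obtain ⟨u, hu, e⟩ := orbX_iter C.hc C.hS φ C.hN C.hT hp k ht
      exact ⟨X C φ J u, (h J u hu).1, by rw [Subgroup.subtype_apply, coe_X C φ (J := J) hu, e]⟩
    · have hk' : D.neg (D.simple i) = S.imgIter k (D.neg (sn J)) := by rw [imgIter_neg_sn C, ← hk]
      rw [hk'] at ht ⊢
      obtain ⟨u, hu, e⟩ := orbX_iter C.hc C.hS φ C.hN C.hT (neg_lt C.hc hp) k ht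
      have hu' : Par φ J u := by
        simp only [Par, IsPar] at hu ⊢
        rwa [TwistSym.olen_neg C.hc C.hS hp] at hu
      exact ⟨Y C φ J u, (h J u hu').2, by rw [Subgroup.subtype_apply, coe_Y C φ hu', e]⟩
  refine MulEquiv.ext fun x => ?_
  obtain ⟨y, hy, e⟩ := hle x.2
  obtain rfl : y = x := Subtype.ext e
  exact hy

theorem inner_std (hker : ∀ c : Fin D.rank → Kˣ, hPar D K (tauPar C.hS φ c) = hPar D K c →
      ∃ w, hPar D K w = 1 ∧ tauPar C.hS φ (c * w) = c * w)
    {x : ↥(Tg C φ)} (h : Std C φ (MulAut.conj x)) :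
    ∃ c ∈ fixPar C.hS φ, (x : GL D.Idx K) = torus D T K (hPar D K c) := by
  have hB : x ∈ Bw C φ := (mem_B_iff C φ x).2 fun y hy => (h.1 y).2 hy
  obtain ⟨n, hnm, hflip, -⟩ := exists_flip C φ
  have hB' : n⁻¹ * x * n ∈ Bw C φ := (mem_B_iff C φ _).2 fun y hy => by
    rw [← hflip.1]
    have e : n * (n⁻¹ * x * n * y * (n⁻¹ * x * n)⁻¹) * n⁻¹ = MulAut.conj x (n * y * n⁻¹) := by
      simp [MulAut.conj_apply, mul_assoc]
    rw [e, h.2, hflip.1]; exact hy
  obtain ⟨u, hu, k, hk, e⟩ :=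
    twistB_split C.hc C.hS φ C.hO C.hN C.comm (b := ((n⁻¹ * x * n : ↥(Tg C φ)) : GL D.Idx K))
      ⟨hB', (n⁻¹ * x * n).2⟩
  let u' : ↥(Tg C φ) := ⟨u, posU_fixed_le C.hc C.comm C.hS C.hO φ C.hN hu⟩
  have hu' : u' ∈ Uw C φ := by show u ∈ Up D K; rw [← up_eq C]; exact hu.1
  have hV := Subgroup.mem_subgroupOf.1 ((hflip.1 u').2 hu')
  have hmem : (x : GL D.Idx K) ∈ Um D K ⊔ D.diagonalSubgroup K := by
    rw [show (x : GL D.Idx K) = ((n * u' * n⁻¹ : ↥(Tg C φ)) : GL D.Idx K) *
        ((n : GL D.Idx K) * k * (n : GL D.Idx K)⁻¹) by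
      rw [Subgroup.coe_mul, Subgroup.coe_mul] at e
      rw [show (x : GL D.Idx K) = (n : GL D.Idx K) * ((n⁻¹ : ↥(Tg C φ)) * (x : GL D.Idx K) * n) *
        (n : GL D.Idx K)⁻¹ by rw [Subgroup.coe_inv]; group, e]
      simp only [Subgroup.coe_mul, Subgroup.coe_inv, u']; group]
    exact mul_mem (Subgroup.mem_sup_left hV)
      (Subgroup.mem_sup_right (monomial_conj_diagonal C.hc hnm hk.1))
  have hd := borel_inf_negH C.hc (Subgroup.mem_subgroupOf.1 hB) hmem
  obtain ⟨c, hc', e'⟩ := (diag_inf_twist C.hc C.hS φ C.hO C.hN C.hT hker).le ⟨hd, x.2⟩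
  exact ⟨c, hc', e'.symm⟩

theorem hPar_fixed (hcm : ∀ i j, cm D (imgNode C.hS i) (imgNode C.hS j) = cm D i j)
    {c : Fin D.rank → Kˣ} (hcc : c ∈ fixPar C.hS φ) : hPar D K c ∈ fixPar C.hS φ := by
  rw [mem_fixPar]
  funext j
  obtain ⟨i, rfl⟩ : ∃ i, imgNode C.hS i = j := ⟨_, imgNode_preNode C.hS j⟩
  have hb : Function.Bijective (imgNode C.hS) :=
    ⟨fun a b h => by rw [← preNode_imgNode C.hS a, h, preNode_imgNode],
      fun j => ⟨_, imgNode_preNode C.hS j⟩⟩
  have himg : ∀ l, c (imgNode C.hS l) = Units.map φ.toRingHom.toMonoidHom (c l) := fun l => by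
    conv_lhs => rw [← mem_fixPar.mp hcc]
    exact Units.ext (tauPar_imgNode C.hS φ c l)
  show Units.map φ.toRingHom.toMonoidHom (∏ l, c l ^ cm D l (preNode C.hS (imgNode C.hS i))) =
    ∏ l, c l ^ cm D l (imgNode C.hS i)
  rw [preNode_imgNode, map_prod]
  exact Fintype.prod_bijective _ hb _ _ fun l => by rw [map_zpow, himg, hcm]

/-- the order of the outer automorphism group -/
theorem card_out [Finite K] (hV : NodeOK S T Lw) {top : RN S} (hL : LinkOK C.hS top) {q : ℕ} (hq : 2 ≤ q)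
    (hpar : ∀ r ∈ S.repList, Nat.card {t : K // IsPar S φ r t} = q ^ S.olen r)
    (hfull : ∀ r, S.olen r = S.d → ∀ t : K, IsPar S φ r t)
    (hker : ∀ c : Fin D.rank → Kˣ, hPar D K (tauPar C.hS φ c) = hPar D K c →
      ∃ w, hPar D K w = 1 ∧ tauPar C.hS φ (c * w) = c * w)
    (hcm : ∀ i j, cm D (imgNode C.hS i) (imgNode C.hS j) = cm D i j) :
    Nat.card (Cfsg.Out ↥(Tg C φ)) =
      Nat.card {c : Fin D.rank → Kˣ // tauPar C.hS φ c = c ∧ hPar D K c = 1} * Nat.card (RingAut K) := by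
  classical
  let P := fixPar C.hS φ
  let ι : ↥P →* ↥P := ((hPar D K).comp P.subtype).codRestrict P fun c => hPar_fixed C φ hcm c.2
  set R := ι.range
  have hidx : R.index = Nat.card {c : Fin D.rank → Kˣ // tauPar C.hS φ c = c ∧ hPar D K c = 1} := by
    have hk : Nat.card {c : Fin D.rank → Kˣ // tauPar C.hS φ c = c ∧ hPar D K c = 1} = Nat.card ι.ker :=
      Nat.card_congr ⟨fun c => ⟨⟨c.1, c.2.1⟩, Subtype.ext c.2.2⟩,
        fun c => ⟨c.1.1, c.1.2, congrArg Subtype.val c.2⟩, fun c => rfl, fun c => rfl⟩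
    have h1 := Subgroup.card_mul_index R
    have h2 := Subgroup.card_mul_index ι.ker
    rw [Subgroup.index_ker] at h2
    rw [hk]
    exact Nat.eq_of_mul_eq_mul_left (Nat.card_pos (α := ↥R)) (h1.trans (h2.symm.trans (mul_comm _ _)))
  let rep : (↥P ⧸ R) × RingAut K → MulAut ↥(Tg C φ) := fun z => diagAut C φ z.1.out * fieldAut C φ z.2
  let Ψ : (↥P ⧸ R) × RingAut K → Cfsg.Out ↥(Tg C φ) := fun z => QuotientGroup.mk (rep z)
  have hinn : ∀ c : ↥P, diagAut C φ (ι c) ∈ Cfsg.Inn ↥(Tg C φ) := fun c =>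
    ⟨⟨_, torus_fixPar_mem C.hc C.hS φ C.hO C.hN C.hT c.2⟩,
      MulEquiv.ext fun g => Subtype.ext rfl⟩
  have hΨ : Function.Bijective Ψ := by
    constructor
    · rintro ⟨a, σ⟩ ⟨a', σ'⟩ h
      set m := rep ⟨a, σ⟩ with hm
      set m' := rep ⟨a', σ'⟩ with hm'
      obtain ⟨x, hx⟩ : m' * m⁻¹ ∈ Cfsg.Inn ↥(Tg C φ) := by
        rw [← QuotientGroup.eq_one_iff, QuotientGroup.mk_mul, QuotientGroup.mk_inv]
        exact mul_inv_eq_one.2 h.symm
      have hstd : ∀ z, Std C φ (rep z) := fun z =>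
        (diagAut_std C φ _).mul C φ (fieldAut_std C φ _)
      obtain ⟨c, hc', hcx⟩ := inner_std C φ hker (x := x) (by rw [hx]; exact (hstd _).mul C φ ((hstd _).inv C φ))
      have e : m' = diagAut C φ (ι ⟨c, hc'⟩) * m := by
        have : MulAut.conj x = diagAut C φ (ι ⟨c, hc'⟩) := MulEquiv.ext fun g => Subtype.ext (by
          show (x : GL D.Idx K) * g * (x : GL D.Idx K)⁻¹ = _
          rw [hcx]; rfl)
        rw [← this, hx, inv_mul_cancel_right]
      set b := ι ⟨c, hc'⟩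
      have ev : ∀ (J : RN S) (t : K), Par φ J t →
          (a'.out.1 J.1 : K) * σ' t = (b.1 J.1 : K) * ((a.out.1 J.1 : K) * σ t) := by
        intro J t ht
        have h1 := congrArg (fun η : MulAut ↥(Tg C φ) => η (X C φ J t)) e
        have p1 : Par φ J (σ t) := isPar_field φ σ ht
        have p2 : Par φ J (σ' t) := isPar_field φ σ' ht
        have q1 : Par φ J ((a.out.1 J.1 : K) * σ t) :=
          Par.mul (fixPar_isPar C.hc C.hS φ a.out.2 J.1) p1
        have q2 : Par φ J ((a'.out.1 J.1 : K) * σ' t) :=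
          Par.mul (fixPar_isPar C.hc C.hS φ a'.out.2 J.1) p2
        simp only [hm, hm', rep, MulAut.mul_apply, (fieldAut_X C φ _ ht).1, (diagAut_X C φ _ p1).1,
          (diagAut_X C φ _ p2).1, (diagAut_X C φ _ q1).1] at h1
        exact X_inj C φ q2 (Par.mul (fixPar_isPar C.hc C.hS φ b.2 J.1) q1) h1
      have he : a'.out = b * a.out := by
        refine Subtype.ext ?_
        rw [fixPar_eq_prod C.hc C.hS φ C.hO C.hT a'.out.2, fixPar_eq_prod C.hc C.hS φ C.hO C.hT (b * a.out).2]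
        refine Finset.prod_congr rfl fun l hl => ?_
        congr 1
        have := ev ⟨l, (Finset.mem_filter.1 hl).2⟩ 1 Par.one
        rw [map_one, map_one, mul_one, mul_one] at this
        exact Units.ext this
      have ha : a = a' := by
        rw [← QuotientGroup.out_eq' a, ← QuotientGroup.out_eq' a', he, QuotientGroup.mk_mul,
          (QuotientGroup.eq_one_iff b).2 (show b ∈ R from ⟨⟨c, hc'⟩, rfl⟩), one_mul]
      refine Prod.ext ha (RingEquiv.ext fun t => ?_)
      have := ev top t (hfull _ hL.top_long t)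
      rw [he, Subgroup.coe_mul, Pi.mul_apply, Units.val_mul, mul_assoc] at this
      exact (mul_left_cancel₀ (Units.ne_zero _) (mul_left_cancel₀ (Units.ne_zero _) this)).symm
    · intro z
      induction z using QuotientGroup.induction_on with | H θ => ?_
      obtain ⟨x, hx⟩ := exists_std C φ θ
      obtain ⟨c, σ, hS'⟩ := exists_shape C φ hV hL hq hpar hfull hx
      let cc : Fin D.rank → Kˣ := fun i => if h : i.1 ∈ S.repNodes then c ⟨i, h⟩ else 1
      have hcc : ∀ J : RN S, cc J.1 = c J := fun J => dif_pos J.2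
      let a : ↥P := ⟨_, prod_orbPar_fixed C.hc C.hS φ C.hO C.hT cc fun i hi => by
        simpa [hcc ⟨i, hi⟩] using (hS' ⟨i, hi⟩).1⟩
      have haJ : ∀ J : RN S, a.1 J.1 = c J := fun J => by
        have := prod_orbPar_apply C.hc C.hS φ C.hO C.hT cc (i := J.1) J.2 (k := 0) (olen_pos C _)
        rw [← hcc J]; exact this
      have e : MulAut.conj x * θ = diagAut C φ a * fieldAut C φ σ := by
        refine tw_ext C φ fun J t ht => ?_
        have p := isPar_field (S := S) φ σ ht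
        rw [((hS' J).2 t ht).1, ((hS' J).2 t ht).2, MulAut.mul_apply, MulAut.mul_apply, (fieldAut_X C φ σ ht).1,
          (fieldAut_X C φ σ ht).2, (diagAut_X C φ a p).1, (diagAut_X C φ a p).2, haJ]
        exact ⟨rfl, rfl⟩
      refine ⟨⟨QuotientGroup.mk a, σ⟩, ?_⟩
      show QuotientGroup.mk _ = QuotientGroup.mk θ
      set a' := (QuotientGroup.mk a : ↥P ⧸ R).out
      obtain ⟨w, hw⟩ : a⁻¹ * a' ∈ R := QuotientGroup.eq.1 (QuotientGroup.out_eq' _).symm
      have e2 : rep ⟨QuotientGroup.mk a, σ⟩ = diagAut C φ (ι w) * (MulAut.conj x * θ) := by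
        show diagAut C φ a' * fieldAut C φ σ = _
        rw [e, hw, ← mul_assoc, ← map_mul, mul_comm a⁻¹, inv_mul_cancel_right]
      rw [e2, QuotientGroup.mk_mul, QuotientGroup.mk_mul, (QuotientGroup.eq_one_iff _).2 (hinn w),
        (QuotientGroup.eq_one_iff _).2 (show MulAut.conj x ∈ Cfsg.Inn ↥(Tg C φ) from ⟨x, rfl⟩), one_mul, one_mul]
  rw [← Nat.card_congr (Equiv.ofBijective Ψ hΨ), Nat.card_prod, ← Subgroup.index_eq_card, hidx]

end CfsgLib.TwistOut
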