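import Cfsg.Agent.Lib.TwistOut.Nodes

/-!
Twisted groups: a standard automorphism maps each root subgroup of an orbit of nodes to itself.
-/

set_option autoImplicit false
set_option linter.unusedSectionVars false

namespace CfsgLib.TwistOut

open Cfsg.Lie CfsgLib.Chev CfsgLib.Chevalley CfsgLib.Twisted
open CfsgLib.ChevAut (Up Um)
open scoped Matrix

variable {D : ChevalleyDatum} {K : Type*} [Field K] {T : Tabs} {S : TwistSym D} {H : List ℤ}
  {Lw : List ℕ}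

/-- adjacency of the orbits of nodes -/
abbrev Adj (J J' : RN S) : Prop := J ≠ J' ∧ S.wO J'.1.1 (sn J) ≠ sn J

/-- the table facts on the orbits of nodes -/
structure NodeOK (S : TwistSym D) (T : Tabs) (Lw : List ℕ) : Prop where
  swap : ∀ J : RN S, ∃ k < S.d + 1, S.wWord Lw (sn J) = S.imgIter k (D.neg (sn J))
  opp : ∀ J J' : RN S, J ≠ J' → ∀ j < S.olen (sn J), ∀ k < S.olen (sn J'),
    D.neg (S.imgIter k (sn J')) ≠ D.neg (S.imgIter j (sn J)) ∧
      D.chainEntry (S.imgIter j (sn J)) (D.neg (S.imgIter k (sn J'))) = []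
  far : ∀ J J' : RN S, J ≠ J' → S.wO J'.1.1 (sn J) = sn J →
    ∀ j < S.olen (sn J), ∀ k < S.olen (sn J'),
      S.imgIter k (sn J') ≠ D.neg (S.imgIter j (sn J)) ∧
        D.chainEntry (S.imgIter j (sn J)) (S.imgIter k (sn J')) = []
  near : ∀ J J' : RN S, J ≠ J' → S.wO J'.1.1 (sn J) ≠ sn J →
    D.nroots / 2 ≤ S.wO J'.1.1 (sn J) ∧ 2 ≤ hgtC D T (S.wO J'.1.1 (sn J))
  rigid : ∀ π : RN S → RN S, Function.Injective π →
    (∀ J, S.olen (sn J) ≤ S.olen (sn (π J))) → (∀ J J', Adj J J' → Adj (π J) (π J')) → ∀ J, π J = J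

variable (C : Ctx D T S H Lw) (φ : K ≃+* K)
include C

theorem commute_orbX {r r' : ℕ} (hr : r < D.nroots) (hr' : r' < D.nroots)
    (h : ∀ j < S.olen r, ∀ k < S.olen r', S.imgIter k r' ≠ D.neg (S.imgIter j r) ∧
      D.chainEntry (S.imgIter j r) (S.imgIter k r') = []) (t u : K) :
    Commute (orbX C.hS φ r t) (orbX C.hS φ r' u) := by
  rw [orbX_eq_prod C.hc C.hS φ hr, orbX_eq_prod C.hc C.hS φ hr']
  refine Commute.list_prod_left _ _ fun a ha => Commute.list_prod_right _ _ fun b hb => ?_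
  obtain ⟨j, hj, rfl⟩ := List.mem_map.1 ha
  obtain ⟨k, hk, rfl⟩ := List.mem_map.1 hb
  obtain ⟨h1, h2⟩ := h j (List.mem_range.1 hj) k (List.mem_range.1 hk)
  exact commute_elX C.hc (TwistSym.imgIter_lt C.hS hr j) (TwistSym.imgIter_lt C.hS hr' k) h1 h2 _ _

theorem imgIter_neg_sn (J : RN S) (k : ℕ) :
    S.imgIter k (D.neg (sn J)) = D.neg (S.imgIter k (sn J)) := by
  obtain ⟨-, h1, h2, -⟩ := TwistSym.imgIter_simple C.hc C.hS J.1.2 k
  rw [h1, h2]

theorem X_comm_Y (hV : NodeOK S T Lw) {J J' : RN S} (hne : J ≠ J') {t u : K} (ht : Par φ J t)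
    (hu : Par φ J' u) : Commute (X C φ J t) (Y C φ J' u) := by
  refine Subtype.ext ?_
  rw [Subgroup.coe_mul, Subgroup.coe_mul, coe_X C φ ht, coe_Y C φ hu]
  refine (commute_orbX C φ (simple_lt C.hc J.1.2) (neg_lt C.hc (simple_lt C.hc J'.1.2))
    (fun j hj k hk => ?_) t u).eq
  rw [TwistSym.olen_neg C.hc C.hS (simple_lt C.hc J'.1.2)] at hk
  rw [imgIter_neg_sn C]
  exact hV.opp J J' hne j hj k hk

theorem X_comm_X (hV : NodeOK S T Lw) {J J' : RN S} (hne : J ≠ J') (h : ¬ Adj J J') {t u : K}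
    (ht : Par φ J t) (hu : Par φ J' u) : Commute (X C φ J t) (X C φ J' u) := by
  refine Subtype.ext ?_
  rw [Subgroup.coe_mul, Subgroup.coe_mul, coe_X C φ ht, coe_X C φ hu]
  refine (commute_orbX C φ (simple_lt C.hc J.1.2) (simple_lt C.hc J'.1.2) (fun j hj k hk => ?_) t u).eq
  exact hV.far J J' hne (not_not.1 fun e => h ⟨hne, e⟩) j hj k hk

theorem diag_conj {g : ↥(Tg C φ)} (hg : (g : GL D.Idx K) ∈ D.diagonalSubgroup K) (J : RN S) :
    ∃ c : Kˣ, ∀ t, Par φ J t → Par φ J ((c : K) * t) ∧ g * Y C φ J t * g⁻¹ = Y C φ J ((c : K) * t) := by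
  have hp := neg_lt C.hc (simple_lt C.hc J.1.2)
  obtain ⟨c, hc'⟩ := diagonal_conj_elX C.hc hg hp
  refine ⟨c, fun t ht => ?_⟩
  obtain ⟨h1, h2⟩ := fixed_orbX_conj C.hc C.hS φ (twistGrp_le_fixed C.hc C.hS φ g.2) hp hp (c := c) hc'
    (par_negRoot φ C ht)
  have h1' : Par φ J ((c : K) * t) := by
    simp only [Par, IsPar] at h1 ⊢
    rwa [TwistSym.olen_neg C.hc C.hS (simple_lt C.hc J.1.2)] at h1
  exact ⟨h1', Subtype.ext (by
    rw [Subgroup.coe_mul, Subgroup.coe_mul, Subgroup.coe_inv, coe_Y C φ ht, coe_Y C φ h1']; exact h2)⟩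

theorem NJ_conj {J : RN S} {t s : K} (ht : Par φ J t) (h0 : t ≠ 0) (hs : Par φ J s) :
    ∃ w, Par φ J w ∧ (w = 0 → s = 0) ∧ NJ C φ J t * X C φ J s * (NJ C φ J t)⁻¹ = Y C φ J w := by
  obtain ⟨b, hbt, e⟩ := sJ_conj C φ hs
  obtain ⟨c, hc'⟩ := diag_conj C φ (NJ_div C φ ht h0) J
  obtain ⟨hw, he⟩ := hc' b (hs.signed hbt)
  refine ⟨(c : K) * b, hw, fun h => ?_, ?_⟩
  · have := (mul_eq_zero.1 h).resolve_left c.ne_zero
    rcases hbt with rfl | rfl
    · exact this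
    · exact neg_eq_zero.1 this
  · rw [← he, ← e]; group

theorem not_comm_XY {J : RN S} {t : K} (ht : Par φ J t) (h0 : t ≠ 0) :
    ¬ Commute (X C φ J t) (Y C φ J (-t⁻¹)) := by
  intro h
  obtain ⟨w, hw, hw0, e⟩ := NJ_conj C φ ht h0 ht
  have hN : Commute (NJ C φ J t) (X C φ J t) := by
    rw [NJ]
    exact (((Commute.refl _).mul_left h.symm).mul_left (Commute.refl _))
  rw [hN.eq, mul_inv_cancel_right] at e
  exact h0 ((X_eq_one C φ ht).1 (U_inf_V C φ (X_mem_U C φ J t) (e ▸ Y_mem_V C φ J w)))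

theorem node_unique (hV : NodeOK S T Lw) {J J' : RN S} {t u : K} (ht : Par φ J t) (h0 : t ≠ 0)
    (hu : Par φ J' u) (h : X C φ J t = X C φ J' u) : J = J' := by
  by_contra hne
  refine not_comm_XY C φ ht h0 ?_
  rw [h]
  exact X_comm_Y C φ hV (Ne.symm hne) hu ht.inv.neg

theorem adj_not_comm (hV : NodeOK S T Lw) {J J' : RN S} (h : Adj J J') :
    ¬ Commute (X C φ J 1) (X C φ J' 1) := by
  intro hx
  have hy := X_comm_Y C φ hV h.1 (J := J) (J' := J') (t := (1 : K)) (u := -1⁻¹) Par.one Par.one.inv.neg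
  have hN : Commute (X C φ J (1 : K)) (NJ C φ J' 1) := by
    rw [NJ]; exact (hx.mul_right hy).mul_right hx
  have hN' : Commute (X C φ J (1 : K) : GL D.Idx K) (nOrb C.hS φ J'.1.1) := by
    have e : (NJ C φ J' (1 : K) : GL D.Idx K) = nOrb C.hS φ J'.1.1 := coe_NJ C φ Par.one
    rw [← e]
    exact congrArg Subtype.val hN.eq
  rw [coe_X C φ Par.one] at hN'
  have hp := simple_lt C.hc J.1.2
  obtain ⟨hlt, -, e, he, hpar, heq⟩ := nOrb_conj C.hc C.hS φ C.hN J'.1.2 hp (isPar_one φ (sn J))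
  rw [← hN'.eq, mul_inv_cancel_right] at heq
  obtain ⟨h1, h2⟩ := hV.near J J' h.1 h.2
  rw [← hgt_eq_hgtC] at h2
  have hrep := repNode_at C.hc C.hS C.hO J.2
  have hv : orbX C.hS φ (S.wO J'.1.1 (sn J)) ((e : K) * 1) ∈ highU D T K (1 + 1) :=
    orbX_mem_highU C.hc C.hS C.hO φ hlt h1 h2 _
  have := split_unique C.hc C.hS C.hO φ le_rfl (List.nodup_singleton (sn J))
    (fun r hr => by rw [List.mem_singleton.1 hr]; exact hrep)
    (a := fun _ => (1 : K)) (b := fun _ => 0) (u := 1) (one_mem _) hv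
    (by simp [orbP, orbX_zero C.hc C.hS φ hp, heq]) (sn J) (List.mem_singleton.2 rfl)
  exact one_ne_zero this

theorem exists_swap (hV : NodeOK S T Lw) [Finite K] : ∃ n : ↥(Tg C φ), IsFlip C φ n ∧
    ∀ J : RN S, (∀ t, Par φ J t → ∃ u, Par φ J u ∧ n * X C φ J t * n⁻¹ = Y C φ J u) ∧
      ∀ u, Par φ J u → ∃ t, Par φ J t ∧ n⁻¹ * Y C φ J u * n = X C φ J t := by
  obtain ⟨n, -, hflip, hn⟩ := exists_flip C φ
  refine ⟨n, hflip, fun J => ?_⟩
  have hfwd : ∀ t, Par φ J t → ∃ u, Par φ J u ∧ n * X C φ J t * n⁻¹ = Y C φ J u := by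
    intro t ht
    have hp := simple_lt C.hc J.1.2
    obtain ⟨u, hu, -, e⟩ := hn (sn J) hp t ht
    obtain ⟨k, -, hk⟩ := hV.swap J
    rw [hk] at hu e
    obtain ⟨w, hw, e'⟩ := orbX_iter C.hc C.hS φ C.hN C.hT (neg_lt C.hc hp) k hu
    have hw' : Par φ J w := by
      simp only [Par, IsPar] at hw ⊢
      rwa [TwistSym.olen_neg C.hc C.hS hp] at hw
    exact ⟨w, hw', Subtype.ext (by
      rw [Subgroup.coe_mul, Subgroup.coe_mul, Subgroup.coe_inv, coe_X C φ ht, coe_Y C φ hw', e, e'])⟩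
  refine ⟨hfwd, fun u hu => ?_⟩
  choose f hf hfe using fun t : {t : K // Par φ J t} => hfwd t.1 t.2
  obtain ⟨t, ht⟩ := (Finite.injective_iff_surjective (f := fun t : {t : K // Par φ J t} =>
    (⟨f t, hf t⟩ : {t : K // Par φ J t}))).1 (fun a b e => by
      refine Subtype.ext (X_inj C φ a.2 b.2 ?_)
      have h := (hfe a).trans ((congrArg (fun x : {t : K // Par φ J t} => Y C φ J x.1) e).trans (hfe b).symm)
      exact mul_left_cancel (mul_right_cancel h)) ⟨u, hu⟩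
  refine ⟨t.1, t.2, ?_⟩
  rw [← show f t = u from congrArg Subtype.val ht, ← hfe t]; group

/-- the maps of a standard automorphism on the root subgroups of the nodes -/
theorem node_maps (hV : NodeOK S T Lw) [Finite K] {q : ℕ} (hq : 2 ≤ q)
    (hpar : ∀ r ∈ S.repList, Nat.card {t : K // IsPar S φ r t} = q ^ S.olen r)
    {θ : MulAut ↥(Tg C φ)} (hθ : Std C φ θ) (J : RN S) :
    (∀ t, Par φ J t → ∃ u, Par φ J u ∧ θ (X C φ J t) = X C φ J u) ∧
      ∀ t, Par φ J t → ∃ u, Par φ J u ∧ θ (Y C φ J t) = Y C φ J u := by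
  classical
  obtain ⟨n, hflip, hn⟩ := exists_swap C φ hV
  choose π hπ using fun J => negNode_map C φ hθ J
  have pos : ∀ {θ : MulAut ↥(Tg C φ)}, Std C φ θ → ∀ J, ∃ J' : RN S, ∀ t, Par φ J t →
      ∃ u, Par φ J' u ∧ θ (X C φ J t) = X C φ J' u := by
    intro θ hθ J
    have hη : Std C φ (MulAut.conj n * θ * (MulAut.conj n)⁻¹) := by
      have e : ∀ x, (MulAut.conj n * θ * (MulAut.conj n)⁻¹) x = n * θ (n⁻¹ * x * n) * n⁻¹ := fun x => by
        simp [MulAut.conj_apply]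
      refine ⟨fun x => ?_, fun x => ?_⟩ <;> rw [e]
      · rw [hflip.2, hθ.2, ← hflip.2, show n * (n⁻¹ * x * n) * n⁻¹ = x by group]
      · rw [hflip.1, hθ.1, ← hflip.1, show n * (n⁻¹ * x * n) * n⁻¹ = x by group]
    obtain ⟨J', hJ'⟩ := negNode_map C φ hη J
    refine ⟨J', fun t ht => ?_⟩
    obtain ⟨u, hu, e⟩ := (hn J).1 t ht
    obtain ⟨v, hv, e'⟩ := hJ' u hu
    obtain ⟨w, hw, e''⟩ := (hn J').2 v hv
    refine ⟨w, hw, ?_⟩
    rw [← e'', ← e', ← e]
    simp [MulAut.conj_apply, mul_assoc]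
  choose ρ hρ using pos hθ
  choose ρ' hρ' using pos hθ.inv
  have hρρ : ∀ J, ρ' (ρ J) = J := by
    intro J
    obtain ⟨u, hu, e⟩ := hρ J 1 Par.one
    obtain ⟨v, hv, e'⟩ := hρ' (ρ J) u hu
    rw [← e, show θ⁻¹ (θ (X C φ J 1)) = X C φ J 1 from θ.symm_apply_apply _] at e'
    exact (node_unique C φ hV Par.one one_ne_zero hv e').symm
  have hinj : Function.Injective ρ := fun a b e => by rw [← hρρ a, ← hρρ b, e]
  have hlen : ∀ J, S.olen (sn J) ≤ S.olen (sn (ρ J)) := by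
    intro J
    choose f hf hfe using fun t : {t : K // Par φ J t} => hρ J t.1 t.2
    have h1 := Nat.card_le_card_of_injective (fun t => (⟨f t, hf t⟩ : {t : K // Par φ (ρ J) t}))
      fun a b e => by
        refine Subtype.ext (X_inj C φ a.2 b.2 (θ.injective ?_))
        rw [hfe a, hfe b]
        exact congrArg (fun x : {t : K // Par φ (ρ J) t} => X C φ (ρ J) x.1) e
    rw [hpar _ (sn_rep C J), hpar _ (sn_rep C (ρ J))] at h1
    exact (Nat.pow_le_pow_iff_right hq).1 h1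
  have hadj : ∀ J J', Adj J J' → Adj (ρ J) (ρ J') := by
    intro J J' h
    by_contra hn'
    refine adj_not_comm C φ hV h ?_
    obtain ⟨u, hu, e⟩ := hρ J 1 Par.one
    obtain ⟨v, hv, e'⟩ := hρ J' 1 Par.one
    have h1 : Commute (θ (X C φ J 1)) (θ (X C φ J' 1)) := by
      rw [e, e']; exact X_comm_X C φ hV (hinj.ne h.1) hn' hu hv
    exact θ.injective (by rw [map_mul, map_mul]; exact h1.eq)
  have hid := hV.rigid ρ hinj hlen hadj
  refine ⟨by simpa [hid J] using hρ J, ?_⟩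
  have hπJ : π J = J := by
    by_contra hne
    obtain ⟨u, hu, e⟩ := hρ J 1 Par.one
    rw [hid J] at hu e
    obtain ⟨v, hv, e'⟩ := hπ J (-1⁻¹) Par.one.inv.neg
    refine not_comm_XY C φ (J := J) (t := (1 : K)) Par.one one_ne_zero (θ.injective ?_)
    rw [map_mul, map_mul, e, e']
    exact (X_comm_Y C φ hV (Ne.symm hne) hu hv).eq
  simpa [hπJ] using hπ J

end CfsgLib.TwistOut
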