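import Cfsg.Agent.Lib.TwistOut.Base

/-!
Twisted groups: root subgroups of the orbits of nodes and the cells of their reflections; a standard
automorphism permutes the negative ones.
-/

set_option autoImplicit false
set_option linter.unusedSectionVars false

namespace CfsgLib.TwistOut

open Cfsg.Lie CfsgLib.Chev CfsgLib.Chevalley CfsgLib.Twisted
open CfsgLib.ChevAut (Up Um)
open scoped Matrix

variable {D : ChevalleyDatum} {K : Type*} [Field K] {T : Tabs} {S : TwistSym D} {H : List ℤ}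
  {Lw : List ℕ}

/-- the representing nodes -/
abbrev RN (S : TwistSym D) : Type := {i : Fin D.rank // i.1 ∈ S.repNodes}

/-- the fundamental root of a node -/
abbrev sn (J : RN S) : ℕ := D.simple J.1.1

/-- the admissible parameters at a node -/
abbrev Par (φ : K ≃+* K) (J : RN S) (t : K) : Prop := IsPar S φ (sn J) t

section Par
variable {φ : K ≃+* K} {J : RN S} {s t : K}

theorem Par.add (hs : Par φ J s) (ht : Par φ J t) : Par φ J (s + t) := by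
  simp only [Par, IsPar] at *; rw [iterate_map_add, hs, ht]

theorem Par.neg (ht : Par φ J t) : Par φ J (-t) := by
  simp only [Par, IsPar] at *; rw [iterate_map_neg, ht]

theorem Par.mul (hs : Par φ J s) (ht : Par φ J t) : Par φ J (s * t) := by
  simp only [Par, IsPar] at *; rw [iterate_map_mul, hs, ht]

theorem Par.inv (ht : Par φ J t) : Par φ J t⁻¹ := by
  simp only [Par, IsPar] at *
  have : ∀ n, (⇑φ)^[n] t⁻¹ = ((⇑φ)^[n] t)⁻¹ := fun n => by
    induction n with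
    | zero => rfl
    | succ n ih => rw [Function.iterate_succ_apply', Function.iterate_succ_apply', ih, map_inv₀]
  rw [this, ht]

theorem Par.div (hs : Par φ J s) (ht : Par φ J t) : Par φ J (s / t) := by
  rw [div_eq_mul_inv]; exact hs.mul ht.inv

theorem Par.zero : Par φ J (0 : K) := isPar_zero φ _

theorem Par.one : Par φ J (1 : K) := isPar_one φ _

theorem Par.signed {b : K} (ht : Par φ J t) (h : b = t ∨ b = -t) : Par φ J b := by
  rcases h with rfl | rfl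
  exacts [ht, ht.neg]

theorem Par.neg_iff : Par φ J (-t) ↔ Par φ J t := ⟨fun h => neg_neg t ▸ h.neg, Par.neg⟩

end Par

variable (C : Ctx D T S H Lw) (φ : K ≃+* K)

theorem par_negRoot {J : RN S} {t : K} (C : Ctx D T S H Lw) (ht : Par φ J t) :
    IsPar S φ (D.neg (sn J)) t := by
  simp only [Par, IsPar] at *
  rwa [TwistSym.olen_neg C.hc C.hS (simple_lt C.hc J.1.2)]

open scoped Classical in
/-- `x_J(t)` -/
noncomputable def X (J : RN S) (t : K) : ↥(Tg C φ) :=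
  if h : Par φ J t then ⟨orbX C.hS φ (sn J) t, orbX_simple_mem J.1.2 h⟩ else 1

open scoped Classical in
/-- `x_{-J}(t)` -/
noncomputable def Y (J : RN S) (t : K) : ↥(Tg C φ) :=
  if h : Par φ J t then ⟨orbX C.hS φ (D.neg (sn J)) t, orbX_neg_simple_mem J.1.2 (par_negRoot φ C h)⟩
  else 1

/-- `n_J` -/
noncomputable def sJ (J : RN S) : ↥(Tg C φ) :=
  ⟨nOrb C.hS φ J.1.1, nOrb_mem C.hc C.hS φ C.hN J.1.2⟩

/-- `n_J(t)` -/
noncomputable def NJ (J : RN S) (t : K) : ↥(Tg C φ) := X C φ J t * Y C φ J (-t⁻¹) * X C φ J t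

include C

theorem coe_X {J : RN S} {t : K} (h : Par φ J t) :
    (X C φ J t : GL D.Idx K) = orbX C.hS φ (sn J) t := by rw [X, dif_pos h]

theorem coe_Y {J : RN S} {t : K} (h : Par φ J t) :
    (Y C φ J t : GL D.Idx K) = orbX C.hS φ (D.neg (sn J)) t := by rw [Y, dif_pos h]

theorem sn_rep (J : RN S) : sn J ∈ S.repList := (repNode_at C.hc C.hS C.hO J.2).1

theorem X_mul {J : RN S} {s t : K} (hs : Par φ J s) (ht : Par φ J t) :
    X C φ J s * X C φ J t = X C φ J (s + t) := Subtype.ext (by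
  rw [Subgroup.coe_mul, coe_X C φ hs, coe_X C φ ht, coe_X C φ (hs.add ht),
    orbX_add C.hc C.hS φ (simple_lt C.hc J.1.2)])

theorem Y_mul {J : RN S} {s t : K} (hs : Par φ J s) (ht : Par φ J t) :
    Y C φ J s * Y C φ J t = Y C φ J (s + t) := Subtype.ext (by
  rw [Subgroup.coe_mul, coe_Y C φ hs, coe_Y C φ ht, coe_Y C φ (hs.add ht),
    orbX_add C.hc C.hS φ (neg_lt C.hc (simple_lt C.hc J.1.2))])

theorem X_zero (J : RN S) : X C φ J 0 = 1 := Subtype.ext (by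
  rw [coe_X C φ Par.zero, orbX_zero C.hc C.hS φ (simple_lt C.hc J.1.2)]; rfl)

theorem Y_zero (J : RN S) : Y C φ J 0 = 1 := Subtype.ext (by
  rw [coe_Y C φ Par.zero, orbX_zero C.hc C.hS φ (neg_lt C.hc (simple_lt C.hc J.1.2))]; rfl)

theorem X_inv {J : RN S} {t : K} (ht : Par φ J t) : (X C φ J t)⁻¹ = X C φ J (-t) :=
  inv_eq_of_mul_eq_one_right (by rw [X_mul C φ ht ht.neg, add_neg_cancel, X_zero])

theorem Y_inv {J : RN S} {t : K} (ht : Par φ J t) : (Y C φ J t)⁻¹ = Y C φ J (-t) :=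
  inv_eq_of_mul_eq_one_right (by rw [Y_mul C φ ht ht.neg, add_neg_cancel, Y_zero])

theorem X_mem_U (J : RN S) (t : K) : X C φ J t ∈ Uw C φ := by
  by_cases h : Par φ J t
  · show (X C φ J t : GL D.Idx K) ∈ Up D K
    rw [coe_X C φ h]
    exact orbX_mem_up C φ (simple_lt C.hc J.1.2) (half_le_simple C.hc J.1.2) t
  · rw [X, dif_neg h]; exact one_mem _

theorem negSn_lt (J : RN S) : D.neg (sn J) < D.nroots / 2 := ChevAut.negSimple_lt C.hc J.1

theorem Y_mem_V (J : RN S) (t : K) : Y C φ J t ∈ Vw C φ := by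
  by_cases h : Par φ J t
  · show (Y C φ J t : GL D.Idx K) ∈ Um D K
    rw [coe_Y C φ h]
    exact orbX_mem_um C φ (neg_lt C.hc (simple_lt C.hc J.1.2)) (negSn_lt C J) t
  · rw [Y, dif_neg h]; exact one_mem _

theorem sJ_conj {J : RN S} {t : K} (ht : Par φ J t) :
    ∃ b, (b = t ∨ b = -t) ∧ sJ C φ J * X C φ J t * (sJ C φ J)⁻¹ = Y C φ J b := by
  obtain ⟨b, hb, hbt, e⟩ := nOrb_conj_simple C.hc C.hS φ C.hN C.hT J.1.2 ht
  exact ⟨b, hbt, Subtype.ext (by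
    rw [Subgroup.coe_mul, Subgroup.coe_mul, Subgroup.coe_inv, coe_X C φ ht, coe_Y C φ hb]; exact e)⟩

theorem X_eq_one {J : RN S} {t : K} (ht : Par φ J t) : X C φ J t = 1 ↔ t = 0 := by
  refine ⟨fun h => ?_, fun h => by rw [h, X_zero]⟩
  by_contra h0
  exact orbX_ne_one C φ (sn_rep C J) h0 (by rw [← coe_X C φ ht, h]; rfl)

theorem Y_eq_one {J : RN S} {t : K} (ht : Par φ J t) : Y C φ J t = 1 ↔ t = 0 := by
  refine ⟨fun h => ?_, fun h => by rw [h, Y_zero]⟩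
  obtain ⟨b, hbt, e⟩ := sJ_conj C φ ht
  have : b = t ∨ b = -t := hbt
  have hb0 : X C φ J t = 1 ∨ X C φ J (-t) = 1 := by
    rcases hbt with rfl | rfl
    · left; rwa [h, conj_eq_one_iff] at e
    · left
      rw [← Y_inv C φ ht, h, inv_one, conj_eq_one_iff] at e
      exact e
  rcases hb0 with h1 | h1
  · exact (X_eq_one C φ ht).1 h1
  · exact neg_eq_zero.1 ((X_eq_one C φ ht.neg).1 h1)

theorem X_inj {J : RN S} {s t : K} (hs : Par φ J s) (ht : Par φ J t) (h : X C φ J s = X C φ J t) :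
    s = t := by
  have : X C φ J (s + -t) = 1 := by rw [← X_mul C φ hs ht.neg, h, X_mul C φ ht ht.neg, add_neg_cancel, X_zero]
  exact add_neg_eq_zero.1 ((X_eq_one C φ (hs.add ht.neg)).1 this)

theorem Y_inj {J : RN S} {s t : K} (hs : Par φ J s) (ht : Par φ J t) (h : Y C φ J s = Y C φ J t) :
    s = t := by
  have : Y C φ J (s + -t) = 1 := by rw [← Y_mul C φ hs ht.neg, h, Y_mul C φ ht ht.neg, add_neg_cancel, Y_zero]
  exact add_neg_eq_zero.1 ((Y_eq_one C φ (hs.add ht.neg)).1 this)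

theorem sJ_monomial (J : RN S) : (sJ C φ J : GL D.Idx K) ∈ D.monomialSubgroup K :=
  nOrb_mem_monomial C.hc C.hS φ J.1.2

theorem sJ_sq (J : RN S) : ((sJ C φ J * sJ C φ J : ↥(Tg C φ)) : GL D.Idx K) ∈ D.diagonalSubgroup K :=
  (nOrb_sq C.hc C.hS φ C.hN J.1.2).1

theorem coe_NJ {J : RN S} {t : K} (ht : Par φ J t) :
    (NJ C φ J t : GL D.Idx K) =
      orbProd (⇑(twistSigma S C.hS φ)) (S.olen (sn J)) (elN D K (sn J) t) := by
  rw [orbProd_elN_eq C.hc C.hS φ C.hN J.1.2, NJ, Subgroup.coe_mul, Subgroup.coe_mul, coe_X C φ ht,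
    coe_Y C φ ht.inv.neg]

theorem NJ_div {J : RN S} {t : K} (ht : Par φ J t) (h0 : t ≠ 0) :
    ((NJ C φ J t * (sJ C φ J)⁻¹ : ↥(Tg C φ)) : GL D.Idx K) ∈ D.diagonalSubgroup K := by
  rw [Subgroup.coe_mul, coe_NJ C φ ht]
  exact orbProd_elN_div C.hc C.hS φ (simple_lt C.hc J.1.2) h0 one_ne_zero _

theorem Y_decomp {J : RN S} {c : K} (hc' : Par φ J c) :
    Y C φ J c = X C φ J c⁻¹ * NJ C φ J (-c⁻¹) * X C φ J c⁻¹ := by
  rw [NJ, show (-(-c⁻¹)⁻¹ : K) = c by rw [inv_neg, neg_neg, inv_inv], ← X_inv C φ hc'.inv]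
  group

theorem diag_le_B {x : ↥(Tg C φ)} (h : (x : GL D.Idx K) ∈ D.diagonalSubgroup K) : x ∈ Bw C φ :=
  diagonal_le_borel C.hc h

/-- the opposite group meets `B n_J B` in `x_{-J}` -/
theorem neg_inf_cell {J : RN S} {y : ↥(Tg C φ)} (hy : y ∈ Vw C φ)
    (hcell : ∃ b ∈ Bw C φ, ∃ b' ∈ Bw C φ, y = b * sJ C φ J * b') :
    ∃ c, Par φ J c ∧ y = Y C φ J c := by
  obtain ⟨b, hb, b', hb', rfl⟩ := hcell
  set n := sJ C φ J with hn
  obtain ⟨u, hu, h, hh, e⟩ := twistB_split C.hc C.hS φ C.hO C.hN C.comm (b := (b : GL D.Idx K)) ⟨hb, b.2⟩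
  have hu' : u ∈ highU D T K 1 ⊓ fixedSub S C.hS φ := by
    rw [highU_one C.hc (F := K) (TwistSym.htPos C.hO)]; exact hu
  obtain ⟨t, ht, hrest⟩ :=
    exists_split_one C.hc C.comm C.hS C.hO φ le_rfl (repNode_at C.hc C.hS C.hO J.2) hu'
  change Par φ J t at ht
  have hnB : n * n ∈ Bw C φ := diag_le_B C φ (sJ_sq C φ J)
  let r : ↥(Tg C φ) := ⟨_, (repGen_le_B C.hc C.hS φ C.hO C.hN C.hT hrest).2⟩
  let k : ↥(Tg C φ) := ⟨h, hh.2⟩
  have hr : n⁻¹ * r * n ∈ Bw C φ := by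
    have h1 : n * r * n⁻¹ ∈ Bw C φ := (nOrb_conj_repGen C.hc C.hS φ C.hO C.hN C.hT J.2 hrest).1
    rw [show n⁻¹ * r * n = (n * n)⁻¹ * (n * r * n⁻¹) * (n * n) by group]
    exact mul_mem (mul_mem (inv_mem hnB) h1) hnB
  have hk : n⁻¹ * k * n ∈ Bw C φ := diag_le_B C φ (by
    simpa using monomial_conj_diagonal C.hc (inv_mem (sJ_monomial C φ J)) hh.1)
  have hbe : b = X C φ J t * r * k := Subtype.ext (by
    rw [Subgroup.coe_mul, Subgroup.coe_mul, coe_X C φ ht, e]; show _ = _ * (_ * u) * h; group)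
  have hy' : b * n * b' = X C φ J t * n * ((n⁻¹ * r * n) * (n⁻¹ * k * n) * b') := by rw [hbe]; group
  have hb'' := mul_mem (mul_mem hr hk) hb'
  rw [hy'] at hy ⊢
  set b'' := n⁻¹ * r * n * (n⁻¹ * k * n) * b'
  by_cases ht0 : t = 0
  · exfalso
    rw [ht0, X_zero, one_mul] at hy
    obtain ⟨n₀, hn₀, hflip, -⟩ := exists_flip C φ
    obtain ⟨P, hPB, hPN, hPS⟩ := exists_P C φ
    set v := n₀⁻¹ * (n * b'') * n₀ with hv
    have hvU : v ∈ Uw C φ := (hflip.1 v).1 (by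
      rw [show n₀ * v * n₀⁻¹ = n * b'' by rw [hv]; group]; exact hy)
    have hN₀ : n₀⁻¹ ∈ P.N := by rw [hPN]; exact Subgroup.mem_subgroupOf.2 (inv_mem hn₀)
    have hN₁ : n₀⁻¹ * n ∈ P.N := by
      rw [hPN]; exact Subgroup.mem_subgroupOf.2 (mul_mem (inv_mem hn₀) (sJ_monomial C φ J))
    have h1 : v * n₀⁻¹ ∈ CfsgLib.BN.cell P (CfsgLib.BN.wk P _ hN₀) :=
      CfsgLib.BN.cell_left P (hPB ▸ U_le_B C φ hvU) (CfsgLib.BN.self_mem_cell P hN₀)
    have h2 : v * n₀⁻¹ ∈ CfsgLib.BN.cell P (CfsgLib.BN.wk P _ hN₁) := by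
      rw [show v * n₀⁻¹ = n₀⁻¹ * n * b'' by rw [hv]; group]
      exact CfsgLib.BN.cell_right P (CfsgLib.BN.self_mem_cell P hN₁) (hPB ▸ hb'')
    have h3 := (CfsgLib.BN.wk_eq_iff P hN₀ hN₁).1 (CfsgLib.BN.eq_of_mem_cell P h1 h2)
    have hns : n ∈ P.S := by rw [hPS]; exact ⟨J.1.1, J.2, rfl⟩
    apply CfsgLib.BN.S_not_mem_B P hns
    simpa using h3
  · have hc' : Par φ J t⁻¹ := ht.inv
    have hN : NJ C φ J (-t) * n⁻¹ ∈ Bw C φ := diag_le_B C φ (NJ_div C φ ht.neg (neg_ne_zero.2 ht0))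
    have hN' : n⁻¹ * NJ C φ J (-t) ∈ Bw C φ := diag_le_B C φ (by
      have h1 := monomial_conj_diagonal C.hc (inv_mem (sJ_monomial C φ J))
        (NJ_div C φ ht.neg (neg_ne_zero.2 ht0))
      simpa [hn, mul_assoc] using h1)
    have hdec := Y_decomp C φ hc'
    rw [inv_inv] at hdec
    have e' : X C φ J t * n * b'' =
        Y C φ J t⁻¹ * ((X C φ J t)⁻¹ * (n⁻¹ * NJ C φ J (-t))⁻¹ * b'') := by rw [hdec]; group
    rw [e'] at hy ⊢
    have hB := mul_mem (mul_mem (inv_mem (U_le_B C φ (X_mem_U C φ J t))) (inv_mem hN')) hb''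
    have h1 := mul_mem (inv_mem (Y_mem_V C φ J t⁻¹)) hy
    rw [inv_mul_cancel_left] at h1
    exact ⟨t⁻¹, hc', by rw [B_inf_V C φ hB h1, mul_one]⟩

theorem Y_mem_cell {J : RN S} {c : K} (hc' : Par φ J c) (h0 : c ≠ 0) :
    ∃ b ∈ Bw C φ, ∃ b' ∈ Bw C φ, Y C φ J c = b * sJ C φ J * b' := by
  refine ⟨X C φ J c⁻¹ * (NJ C φ J (-c⁻¹) * (sJ C φ J)⁻¹),
    mul_mem (U_le_B C φ (X_mem_U C φ J _))
      (diag_le_B C φ (NJ_div C φ hc'.inv.neg (by simp [h0]))),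
    X C φ J c⁻¹, U_le_B C φ (X_mem_U C φ J _), ?_⟩
  rw [Y_decomp C φ hc']; group

theorem Std.mem_B {θ : MulAut ↥(Tg C φ)} (h : Std C φ θ) {x : ↥(Tg C φ)} (hx : x ∈ Bw C φ) :
    θ x ∈ Bw C φ := by
  refine (mem_B_iff C φ _).2 fun y hy => ?_
  obtain ⟨z, rfl⟩ := θ.surjective y
  rw [← map_inv, ← map_mul, ← map_mul, h.1]
  exact (mem_B_iff C φ x).1 hx z ((h.1 z).1 hy)

/-- a standard automorphism permutes the negative root subgroups of the nodes -/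
theorem negNode_map {θ : MulAut ↥(Tg C φ)} (hθ : Std C φ θ) (J : RN S) :
    ∃ J' : RN S, ∀ t, Par φ J t → ∃ u, Par φ J' u ∧ θ (Y C φ J t) = Y C φ J' u := by
  classical
  obtain ⟨P, hPB, -, hPS⟩ := exists_P C φ
  have hs : sJ C φ J ∈ P.S := by rw [hPS]; exact ⟨J.1.1, J.2, rfl⟩
  have hJ : ({sJ C φ J} : Set ↥(Tg C φ)) ⊆ P.S := Set.singleton_subset_iff.2 hs
  set M := (P.parabolic {sJ C φ J}).map θ.toMonoidHom with hM
  have hBM : P.B ≤ M := fun x hx =>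
    ⟨θ⁻¹ x, CfsgLib.BN.B_le_parabolic P _ (by rw [hPB] at hx ⊢; exact Std.mem_B C φ hθ.inv hx),
      θ.apply_symm_apply x⟩
  have hsM : θ (sJ C φ J) ∈ M := ⟨_, CfsgLib.BN.subset_parabolic P (Set.mem_singleton _), rfl⟩
  have hnB : θ (sJ C φ J) ∉ P.B := by
    intro h
    refine CfsgLib.BN.S_not_mem_B P hs ?_
    rw [hPB] at h ⊢
    have := Std.mem_B C φ hθ.inv h
    rwa [show θ⁻¹ (θ (sJ C φ J)) = sJ C φ J from θ.symm_apply_apply _] at this
  obtain ⟨s, hsS, hsm⟩ : ∃ s ∈ P.S, s ∈ M := by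
    by_contra hcon
    push Not at hcon
    have he : {s | s ∈ P.S ∧ s ∈ M} = ∅ := Set.eq_empty_of_forall_notMem fun s hs => hcon s hs.1 hs.2
    have h1 := CfsgLib.BN.eq_parabolic P hBM
    rw [he] at h1
    have h2 : P.parabolic ∅ = P.B := by simp [Cfsg.BNPair.parabolic]
    rw [h2] at h1
    exact hnB (h1 ▸ hsM)
  obtain ⟨z, hz, hzs⟩ := hsm
  have hzs' : θ z = s := hzs
  obtain ⟨b, hb, b', hb', hze⟩ : ∃ b ∈ Bw C φ, ∃ b' ∈ Bw C φ, z = b * sJ C φ J * b' := by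
    obtain ⟨w, ⟨l, hl, rfl⟩, hzw⟩ := (CfsgLib.BN.mem_parabolic P hJ).1 hz
    have hw : ∀ l : List P.S, (∀ i ∈ l, i ∈ {i : P.S | (i : ↥(Tg C φ)) ∈ ({sJ C φ J} : Set _)}) →
        (l.map (CfsgLib.BN.sgen P)).prod = 1 ∨
          (l.map (CfsgLib.BN.sgen P)).prod = CfsgLib.BN.sgen P ⟨_, hs⟩ := by
      intro l
      induction l with
      | nil => exact fun _ => Or.inl rfl
      | cons a l ih =>
        intro h
        rw [List.forall_mem_cons] at h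
        obtain rfl : a = ⟨_, hs⟩ := Subtype.ext h.1
        rw [List.map_cons, List.prod_cons]
        rcases ih h.2 with e | e <;> rw [e]
        · exact Or.inr (mul_one _)
        · exact Or.inl (CfsgLib.BN.sgen_sq P _)
    rcases hw l hl with e | e <;> rw [e] at hzw
    · exfalso
      refine CfsgLib.BN.S_not_mem_B P hsS ?_
      rw [CfsgLib.BN.mem_cell_one, hPB] at hzw
      rw [← hzs', hPB]
      exact Std.mem_B C φ hθ hzw
    · obtain ⟨b, hb, b', hb', e⟩ := (CfsgLib.BN.mem_cell_wk P (P.subset hs)).1 hzw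
      exact ⟨b, hPB ▸ hb, b', hPB ▸ hb', e⟩
  rw [hPS] at hsS
  obtain ⟨j, hj, hsj⟩ := hsS
  let J' : RN S := ⟨⟨j, (mem_repNodes hj).1⟩, hj⟩
  refine ⟨J', fun t ht => ?_⟩
  by_cases h0 : t = 0
  · exact ⟨0, Par.zero, by rw [h0, Y_zero, map_one, Y_zero]⟩
  refine neg_inf_cell C φ (J := J') ((hθ.2 _).2 (Y_mem_V C φ J t)) ?_
  obtain ⟨x, hx, y, hy, e⟩ := Y_mem_cell C φ ht h0
  refine ⟨θ x * (θ b)⁻¹, mul_mem (Std.mem_B C φ hθ hx) (inv_mem (Std.mem_B C φ hθ hb)),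
    (θ b')⁻¹ * θ y, mul_mem (inv_mem (Std.mem_B C φ hθ hb')) (Std.mem_B C φ hθ hy), ?_⟩
  have hJ' : sJ C φ J' = θ b * θ (sJ C φ J) * θ b' := by
    rw [← map_mul, ← map_mul, ← hze, hzs']
    exact Subtype.ext hsj.symm
  rw [e, hJ', map_mul, map_mul]; group

end CfsgLib.TwistOut
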