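import Cfsg.Agent.Lib.TwistOut.Maps
import Mathlib.FieldTheory.Finite.Basic

/-!
Twisted groups: a standard automorphism acts on the root subgroups of the nodes through scalars and
one field automorphism.
-/

set_option autoImplicit false
set_option linter.unusedSectionVars false

namespace CfsgLib.TwistOut

open Cfsg.Lie CfsgLib.Chev CfsgLib.Chevalley CfsgLib.Twisted
open scoped Matrix

variable {D : ChevalleyDatum} {K : Type*} [Field K] {T : Tabs} {S : TwistSym D} {H : List ℤ}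
  {Lw : List ℕ}

/-- the torus of the orbit of `J` acts on the root of `J'` by the power `e` -/
def CmAt (hS : S.test = true) (J J' : RN S) (e : ℤ) : Prop :=
  ∀ k < S.olen (sn J), cm D (iterNode hS k J.1) J'.1 = if k = 0 then e else 0

/-- a link between two orbits of nodes -/
def Link (hS : S.test = true) (J J' : RN S) : Prop :=
  CmAt hS J J' (-1) ∧ (S.olen (sn J) = S.olen (sn J') ∨ S.olen (sn J) = 1)

/-- the Cartan data used to compare the field automorphisms of the orbits -/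
structure LinkOK (hS : S.test = true) (top : RN S) : Prop where
  top_long : S.olen (sn top) = S.d
  self : ∀ J : RN S, CmAt hS J J 2
  reach : ∀ J : RN S, Relation.ReflTransGen (Link hS) J top

variable (C : Ctx D T S H Lw) (φ : K ≃+* K)

/-- the torus element of an orbit of nodes -/
noncomputable def HJ (J : RN S) (a : K) : ↥(Tg C φ) := NJ C φ J a * (sJ C φ J)⁻¹

include C

theorem coe_HJ {J : RN S} {a : Kˣ} (ha : Par φ J (a : K)) :
    (HJ C φ J (a : K) : GL D.Idx K) = torus D T K (hPar D K (orbPar C.hS φ J.1 a)) := by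
  have hi := J.1.2
  have hp := simple_lt C.hc hi
  set f := (twistSigma S C.hS φ).toMonoidHom
  set d := torus D T K (hPar D K (Pi.mulSingle J.1 a)) with hd
  have hd' : d = elN D K (sn J) (a : K) * (elN D K (sn J) 1)⁻¹ := by
    have h := elN_mul_inv C.hc (F := K) hp a 1
    rw [Units.val_one, div_one] at h
    rw [hd, h, hPar_eq_corChar C.hc, Finset.prod_eq_single J.1]
    · rw [Pi.mulSingle_eq_same]
    · intro j _ hj; rw [Pi.mulSingle_eq_of_ne hj, corChar_one]
    · simp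
  have h1 : torus D T K (hPar D K (orbPar C.hS φ J.1 a)) =
      orbProd (⇑(twistSigma S C.hS φ)) (S.olen (sn J)) d := by
    unfold orbPar
    generalize S.olen (sn J) = n
    induction n with
    | zero => simp [orbProd]
    | succ n ih =>
      rw [Finset.prod_range_succ, map_mul, map_mul, ih, orbProd_succ, hd,
        twistSigma_iter_torus C.hc C.hS φ]
  rw [h1, HJ, Subgroup.coe_mul, Subgroup.coe_inv, coe_NJ C φ ha]
  show _ * (nOrb C.hS φ J.1.1)⁻¹ = _
  rw [mul_inv_eq_iff_eq_mul, nOrb]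
  have hmul : d * elN D K (sn J) 1 = elN D K (sn J) (a : K) := by rw [hd', inv_mul_cancel_right]
  conv_lhs => rw [← hmul]
  refine orbProd_mul f _ _ _ fun j k hj hk hjk => ?_
  rw [hd', elN_inv C.hc hp, iterate_map_mul]
  exact (commute_elN_iter C.hc C.hS φ C.hN hi _ _ hj hk hjk).mul_left
    (commute_elN_iter C.hc C.hS φ C.hN hi _ _ hj hk hjk)

theorem olen_pos (r : ℕ) : 0 < S.olen r := by
  unfold TwistSym.olen
  split_ifs
  exacts [one_pos, TwistSym.d_pos C.hS]

theorem HJ_conj {J J' : RN S} {e : ℤ} (hcm : CmAt C.hS J J' e) {a : K} (ha : Par φ J a) (h0 : a ≠ 0)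
    {u : K} (hu : Par φ J' u) : Par φ J' (a ^ e * u) ∧
      HJ C φ J a * X C φ J' u * (HJ C φ J a)⁻¹ = X C φ J' (a ^ e * u) := by
  obtain ⟨A, rfl⟩ : ∃ A : Kˣ, (A : K) = a := ⟨Units.mk0 a h0, rfl⟩
  have hp := simple_lt C.hc J'.1.2
  have hcoe := coe_HJ C φ ha
  have hchi : chi (hPar D K (orbPar C.hS φ J.1 A)) (rv D T (sn J')) = A ^ e := by
    rw [rv_simple C.hc, chi_single, zpow_one, orbPar, map_prod, Finset.prod_apply,
      Finset.prod_eq_single 0]
    · show ∏ i, (Pi.mulSingle J.1 A : Fin D.rank → Kˣ) i ^ cm D i J'.1 = _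
      rw [Finset.prod_eq_single J.1 (fun i _ hi => by rw [Pi.mulSingle_eq_of_ne hi, one_zpow]) (by simp),
        Pi.mulSingle_eq_same]
      have := hcm 0 (olen_pos C _)
      rw [if_pos rfl] at this
      exact congrArg (A ^ ·) this
    · intro k hk h0'
      rw [iterate_tauPar_single]
      show ∏ i, (Pi.mulSingle (iterNode C.hS k J.1) _ : Fin D.rank → Kˣ) i ^ cm D i J'.1 = 1
      rw [Finset.prod_eq_single (iterNode C.hS k J.1)
        (fun i _ hi => by rw [Pi.mulSingle_eq_of_ne hi, one_zpow]) (by simp), Pi.mulSingle_eq_same]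
      have := hcm k (Finset.mem_range.1 hk)
      rw [if_neg h0'] at this
      rw [this, zpow_zero]
    · exact fun h => absurd (Finset.mem_range.2 (olen_pos C _)) h
  have hcx : ∀ t, (HJ C φ J (A : K) : GL D.Idx K) * elX D K (sn J') t * (HJ C φ J (A : K) : GL D.Idx K)⁻¹ =
      elX D K (sn J') (((A ^ e : Kˣ) : K) * t) := fun t => by
    rw [hcoe, torus_conj_elX C.hc _ hp, hchi]
  obtain ⟨h1, h2⟩ := fixed_orbX_conj C.hc C.hS φ (twistGrp_le_fixed C.hc C.hS φ (HJ C φ J (A : K)).2) hp hp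
    (c := A ^ e) hcx hu
  rw [Units.val_zpow_eq_zpow_val] at h1 h2
  exact ⟨h1, Subtype.ext (by
    rw [Subgroup.coe_mul, Subgroup.coe_mul, Subgroup.coe_inv, coe_X C φ hu, coe_X C φ h1]; exact h2)⟩

theorem opp_conj_eq_zero {top : RN S} (hL : LinkOK C.hS top) {J : RN S} {d w w' : K} (hd : Par φ J d)
    (hw : Par φ J w) (hw' : Par φ J w') (hw0 : w ≠ 0)
    (h : X C φ J d * Y C φ J w * X C φ J (-d) = Y C φ J w') : d = 0 := by
  have hw'0 : w' ≠ 0 := by
    rintro rfl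
    rw [Y_zero, ← X_inv C φ hd, conj_eq_one_iff, Y_eq_one C φ hw] at h
    exact hw0 h
  set N := NJ C φ J (-w⁻¹) with hN
  set N' := NJ C φ J (-w'⁻¹) with hN'
  set e := d + w⁻¹ + -w'⁻¹ with he
  set f := w⁻¹ + -d + -w'⁻¹ with hf
  have hpe : Par φ J e := (hd.add hw.inv).add hw'.inv.neg
  have hpf : Par φ J f := (hw.inv.add hd.neg).add hw'.inv.neg
  have h1 : X C φ J (d + w⁻¹) * N * X C φ J (w⁻¹ + -d) = X C φ J w'⁻¹ * N' * X C φ J w'⁻¹ := by
    rw [hN, hN', ← Y_decomp C φ hw', ← h, Y_decomp C φ hw, ← X_mul C φ hd hw.inv, ← X_mul C φ hw.inv hd.neg]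
    group
  have h2 : X C φ J e * (N * X C φ J f * N⁻¹) = N' * N⁻¹ := by
    rw [he, hf, ← X_mul C φ (hw.inv.add hd.neg) hw'.inv.neg, add_comm (d + w⁻¹),
      ← X_mul C φ hw'.inv.neg (hd.add hw.inv), ← X_inv C φ hw'.inv]
    calc _ = (X C φ J w'⁻¹)⁻¹ * (X C φ J (d + w⁻¹) * N * X C φ J (w⁻¹ + -d)) * (X C φ J w'⁻¹)⁻¹ * N⁻¹ := by
          group
      _ = _ := by rw [h1]; group
  have hNd : ∀ x, Par φ J x → x ≠ 0 → ((NJ C φ J x * (sJ C φ J)⁻¹ : ↥(Tg C φ)) : GL D.Idx K) ∈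
      D.diagonalSubgroup K := fun x hx h0 => NJ_div C φ hx h0
  have hpw : Par φ J (-w⁻¹) := hw.inv.neg
  have hpw' : Par φ J (-w'⁻¹) := hw'.inv.neg
  have hdiag : ((N' * N⁻¹ : ↥(Tg C φ)) : GL D.Idx K) ∈ D.diagonalSubgroup K := by
    rw [show N' * N⁻¹ = N' * (sJ C φ J)⁻¹ * (N * (sJ C φ J)⁻¹)⁻¹ by group, Subgroup.coe_mul, Subgroup.coe_inv]
    exact mul_mem (hNd _ hpw' (by simp [hw'0])) (inv_mem (hNd _ hpw (by simp [hw0])))
  obtain ⟨v, hv, hv0, hNc⟩ := NJ_conj C φ hpw (by simp [hw0]) hpf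
  rw [← hN] at hNc
  rw [hNc] at h2
  have hY : Y C φ J v ∈ Bw C φ := by
    rw [show Y C φ J v = (X C φ J e)⁻¹ * (N' * N⁻¹) by rw [← h2]; group]
    exact mul_mem (inv_mem (U_le_B C φ (X_mem_U C φ J e))) (diag_le_B C φ hdiag)
  have hY1 := B_inf_V C φ hY (Y_mem_V C φ J v)
  have hf0 : f = 0 := hv0 ((Y_eq_one C φ hv).1 hY1)
  rw [hY1, mul_one] at h2
  have hX1 : X C φ J e = 1 := Subtype.ext (pos_inf_diag C.hc
    (Subgroup.mem_subgroupOf.1 (X_mem_U C φ J e)) (h2 ▸ hdiag))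
  have he0 : e = 0 := (X_eq_one C φ hpe).1 hX1
  have hNN : N' = N := by rw [hX1] at h2; exact mul_inv_eq_one.1 h2.symm
  have hsq : (-w'⁻¹) ^ (2 : ℤ) = (-w⁻¹) ^ (2 : ℤ) := by
    have h3 := (HJ_conj C φ (hL.self J) hpw' (by simp [hw'0]) Par.one)
    have h4 := (HJ_conj C φ (hL.self J) hpw (by simp [hw0]) Par.one)
    have h5 : X C φ J ((-w'⁻¹) ^ (2 : ℤ) * 1) = X C φ J ((-w⁻¹) ^ (2 : ℤ) * 1) := by
      rw [← h3.2, ← h4.2, HJ, HJ, ← hN', ← hN, hNN]
    simpa using X_inj C φ h3.1 h4.1 h5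
  rw [zpow_ofNat, zpow_ofNat] at hsq
  rw [he] at he0
  rw [hf] at hf0
  have h2d : (2 : K) * d = 0 := by linear_combination he0 - hf0
  rcases mul_eq_zero.1 h2d with h2' | hd0
  · have : (w⁻¹ - w'⁻¹) ^ 2 = 0 := by linear_combination -hsq + (w'⁻¹ ^ 2 - w⁻¹ * w'⁻¹) * h2'
    linear_combination he0 - (pow_eq_zero_iff (two_ne_zero : (2 : ℕ) ≠ 0)).1 this
  · exact hd0

variable {θ : MulAut ↥(Tg C φ)}

/-- `θ` acts at `J` through `α` and `β` -/
def ActsAt (θ : MulAut ↥(Tg C φ)) (J : RN S) (α β : K → K) : Prop :=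
  ∀ t, Par φ J t → (Par φ J (α t) ∧ θ (X C φ J t) = X C φ J (α t)) ∧
    Par φ J (β t) ∧ θ (Y C φ J t) = Y C φ J (β t)

theorem actsAt_ne {J : RN S} {α β : K → K} (h : ActsAt C φ θ J α β) {t : K} (ht : Par φ J t)
    (h0 : t ≠ 0) : α t ≠ 0 ∧ β t ≠ 0 := by
  constructor <;> intro e
  · have := (h t ht).1.2
    rw [e, X_zero, ← map_one θ] at this
    exact h0 ((X_eq_one C φ ht).1 (θ.injective this))
  · have := (h t ht).2.2
    rw [e, Y_zero, ← map_one θ] at this
    exact h0 ((Y_eq_one C φ ht).1 (θ.injective this))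

theorem param_neg {top : RN S} (hL : LinkOK C.hS top) {J : RN S} {α β : K → K}
    (h : ActsAt C φ θ J α β) {t : K} (ht : Par φ J t) (h0 : t ≠ 0) :
    β (-t⁻¹) = -(α t)⁻¹ ∧ θ (NJ C φ J t) = NJ C φ J (α t) := by
  obtain ⟨⟨hA, eA⟩, -⟩ := h t ht
  obtain ⟨-, hc', ec⟩ := h _ ht.inv.neg
  have hc0 := (actsAt_ne C φ h ht.inv.neg (by simp [h0])).2
  set a := α t
  set c := β (-t⁻¹)
  have hg : θ (NJ C φ J t) = X C φ J a * Y C φ J c * X C φ J a := by
    rw [NJ, map_mul, map_mul, eA, ec]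
  set d := a + c⁻¹
  have hpd : Par φ J d := hA.add hc'.inv
  have hgd : θ (NJ C φ J t) = X C φ J d * NJ C φ J (-c⁻¹) * X C φ J d := by
    rw [hg, Y_decomp C φ hc']
    simp only [d]
    conv_rhs => rw [← X_mul C φ hA hc'.inv]
    rw [show ∀ A B N : ↥(Tg C φ), A * (B * N * B) * A = A * B * N * (B * A) from fun A B N => by group,
      X_mul C φ hc'.inv hA, add_comm, ← X_mul C φ hA hc'.inv]
  obtain ⟨w₀, hw₀, -, he₀⟩ := NJ_conj C φ ht h0 (Par.one (K := K) (φ := φ) (J := J))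
  obtain ⟨⟨hA1, eA1⟩, -⟩ := h 1 Par.one
  obtain ⟨-, hW, eW⟩ := h w₀ hw₀
  obtain ⟨w₁, hw₁, hw₁0, he₁⟩ := NJ_conj C φ hc'.inv.neg (by simp [hc0]) hA1
  have hne : w₁ ≠ 0 := fun e => (actsAt_ne C φ h Par.one one_ne_zero).1 (hw₁0 e)
  have himg := congrArg θ he₀
  rw [map_mul, map_mul, map_inv, eA1, eW, hgd] at himg
  have hd : d = 0 := by
    refine opp_conj_eq_zero C φ hL hpd hw₁ hW hne ?_
    rw [← himg, ← he₁, ← X_inv C φ hpd]
    have hXY : X C φ J d * X C φ J (α 1) * (X C φ J d)⁻¹ = X C φ J (α 1) := by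
      rw [X_mul C φ hpd hA1, add_comm, ← X_mul C φ hA1 hpd, mul_inv_cancel_right]
    calc _ = X C φ J d * NJ C φ J (-c⁻¹) * (X C φ J d * X C φ J (α 1) * (X C φ J d)⁻¹) *
          (NJ C φ J (-c⁻¹))⁻¹ * (X C φ J d)⁻¹ := by rw [hXY]; group
      _ = _ := by group
  have hca : c = -a⁻¹ := by
    rw [show a = -c⁻¹ by linear_combination hd, inv_neg, inv_inv, neg_neg]
  exact ⟨hca, by rw [hg, hca]; rfl⟩

theorem param_torus {top : RN S} (hL : LinkOK C.hS top) {J J' : RN S} {α β α' β' : K → K}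
    (h : ActsAt C φ θ J α β) (h' : ActsAt C φ θ J' α' β') {e : ℤ} (hcm : CmAt C.hS J J' e) {t u : K}
    (ht : Par φ J t) (h0 : t ≠ 0) (hu : Par φ J' u) :
    α' (t ^ e * u) = (α t / α 1) ^ e * α' u := by
  obtain ⟨h1, h2⟩ := HJ_conj C φ hcm ht h0 hu
  have hN : ∀ x, Par φ J x → x ≠ 0 → θ (NJ C φ J x) = HJ C φ J (α x) * sJ C φ J := fun x hx hx0 => by
    rw [(param_neg C φ hL h hx hx0).2, HJ, inv_mul_cancel_right]
  have hH : θ (HJ C φ J t) = HJ C φ J (α t) * (HJ C φ J (α 1))⁻¹ := by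
    have e1 : sJ C φ J = NJ C φ J 1 := Subtype.ext (coe_NJ C φ Par.one).symm
    rw [HJ, map_mul, map_inv, hN t ht h0]
    conv_lhs => rw [show θ (sJ C φ J) = θ (NJ C φ J 1) by rw [← e1], hN 1 Par.one one_ne_zero]
    group
  have ha := actsAt_ne C φ h ht h0
  have ha1 := actsAt_ne C φ h (Par.one (J := J)) one_ne_zero
  obtain ⟨⟨hA', eA'⟩, -⟩ := h' u hu
  obtain ⟨⟨hB', eB'⟩, -⟩ := h' _ h1
  obtain ⟨⟨hAt, -⟩, -⟩ := h t ht
  obtain ⟨⟨hA1, -⟩, -⟩ := h 1 Par.one
  -- undo the torus element at `α 1`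
  obtain ⟨k1, k2⟩ := HJ_conj C φ hcm hA1.inv (inv_ne_zero ha1.1) hA'
  obtain ⟨l1, l2⟩ := HJ_conj C φ hcm hA1 ha1.1 k1
  have hinv : (HJ C φ J (α 1))⁻¹ * X C φ J' (α' u) * HJ C φ J (α 1) =
      X C φ J' ((α 1)⁻¹ ^ e * α' u) := by
    rw [inv_zpow, ← mul_assoc, mul_inv_cancel₀ (zpow_ne_zero e ha1.1), one_mul] at l2
    rw [inv_zpow, ← l2]; group
  obtain ⟨m1, m2⟩ := HJ_conj C φ hcm hAt ha.1 k1
  have himg := congrArg θ h2
  rw [map_mul, map_mul, map_inv, hH, eA', eB'] at himg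
  rw [show ∀ A B Z : ↥(Tg C φ), A * B⁻¹ * Z * (A * B⁻¹)⁻¹ = A * (B⁻¹ * Z * B) * A⁻¹ from
    fun A B Z => by group, hinv, m2] at himg
  rw [← X_inj C φ m1 hB' himg, div_eq_mul_inv, mul_zpow, mul_assoc]

/-- the shape of a standard automorphism -/
theorem exists_shape (hV : NodeOK S T Lw) {top : RN S} (hL : LinkOK C.hS top) [Finite K] {q : ℕ}
    (hq : 2 ≤ q) (hpar : ∀ r ∈ S.repList, Nat.card {t : K // IsPar S φ r t} = q ^ S.olen r)
    (hfull : ∀ r, S.olen r = S.d → ∀ t : K, IsPar S φ r t) (hθ : Std C φ θ) :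
    ∃ (c : RN S → Kˣ) (σ : RingAut K), ∀ J, Par φ J (c J : K) ∧ ∀ t, Par φ J t →
      θ (X C φ J t) = X C φ J ((c J : K) * σ t) ∧
      θ (Y C φ J t) = Y C φ J (((c J)⁻¹ : Kˣ) * σ t) := by
  classical
  have hm := fun J => node_maps C φ hV hq hpar hθ J
  have hpick : ∀ J : RN S, ∃ α β : K → K, ActsAt C φ θ J α β := by
    intro J
    choose a ha using (hm J).1
    choose b hb using (hm J).2
    refine ⟨fun t => if h : Par φ J t then a t h else 0, fun t => if h : Par φ J t then b t h else 0,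
      fun t ht => ?_⟩
    simp only [dif_pos ht]
    exact ⟨ha t ht, hb t ht⟩
  choose α β hA using hpick
  have h1 : ∀ J, α J 1 ≠ 0 := fun J => (actsAt_ne C φ (hA J) Par.one one_ne_zero).1
  let g : RN S → K → K := fun J t => α J t / α J 1
  have gone : ∀ J, g J 1 = 1 := fun J => div_self (h1 J)
  have aadd : ∀ {J s t}, Par φ J s → Par φ J t → α J (s + t) = α J s + α J t := by
    intro J s t hs ht
    obtain ⟨⟨a1, a2⟩, -⟩ := hA J s hs
    obtain ⟨⟨b1, b2⟩, -⟩ := hA J t ht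
    obtain ⟨⟨c1, c2⟩, -⟩ := hA J _ (hs.add ht)
    refine X_inj C φ c1 (a1.add b1) ?_
    rw [← c2, ← X_mul C φ a1 b1, ← a2, ← b2, ← map_mul, X_mul C φ hs ht]
  have a0 : ∀ J, α J 0 = 0 := fun J => by
    have := aadd (J := J) Par.zero Par.zero
    simpa using this
  have gadd : ∀ {J s t}, Par φ J s → Par φ J t → g J (s + t) = g J s + g J t := fun hs ht => by
    simp only [g, aadd hs ht, add_div]
  have gsq : ∀ {J t u}, Par φ J t → Par φ J u → g J (t ^ 2 * u) = g J t ^ 2 * g J u := by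
    intro J t u ht hu
    by_cases h0 : t = 0
    · simp [g, h0, a0]
    have := param_torus C φ hL (hA J) (hA J) (hL.self J) ht h0 hu
    rw [zpow_ofNat, zpow_ofNat] at this
    simp only [g, this, mul_div_assoc]
  have gsq' : ∀ {J t}, Par φ J t → g J (t ^ 2) = g J t ^ 2 := fun {J t} ht => by
    have := gsq ht (Par.one (J := J))
    rwa [mul_one, gone, mul_one] at this
  have gmul : ∀ {J s t}, Par φ J s → Par φ J t → g J (s * t) = g J s * g J t := by
    intro J s t hs ht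
    by_cases h2 : (2 : K) = 0
    · haveI : Fintype K := Fintype.ofFinite K
      haveI : CharP K 2 := CharTwo.of_one_ne_zero_of_two_eq_zero one_ne_zero h2
      obtain ⟨r, rfl⟩ := FiniteField.isSquare_of_char_two (ringChar.eq K 2) s
      have hr : Par φ J r := by
        simp only [Par, IsPar] at hs ⊢
        rw [iterate_map_mul] at hs
        rcases mul_self_eq_mul_self_iff.1 hs with e | e
        · exact e
        · rw [e, CharTwo.neg_eq]
      rw [← sq, gsq hr ht, gsq' hr]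
    · have e := gsq' (hs.add ht)
      have hst := hs.mul ht
      have h2st : Par φ J (2 * s * t) := by rw [two_mul, add_mul]; exact hst.add hst
      have hs2 : Par φ J (s ^ 2) := by rw [sq]; exact hs.mul hs
      rw [add_sq, gadd (hs2.add h2st) (by rw [sq]; exact ht.mul ht),
        gadd (by rw [sq]; exact hs.mul hs) h2st, gsq' hs, gsq' ht, mul_assoc, two_mul (s * t),
        gadd hst hst, gadd hs ht] at e
      have : (2 : K) * (g J (s * t) - g J s * g J t) = 0 := by linear_combination e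
      exact sub_eq_zero.1 ((mul_eq_zero.1 this).resolve_left h2)
  have hfullT : ∀ t : K, Par φ top t := fun t => hfull _ hL.top_long t
  let fh : K →+* K :=
    { toFun := g top
      map_one' := gone top
      map_mul' := fun s t => gmul (hfullT s) (hfullT t)
      map_zero' := by simp [g, a0]
      map_add' := fun s t => gadd (hfullT s) (hfullT t) }
  let σ : RingAut K :=
    RingEquiv.ofBijective fh ⟨fh.injective, Finite.injective_iff_surjective.1 fh.injective⟩
  have gpow : ∀ {J J'}, Link C.hS J J' → ∀ t, Par φ J t → Par φ J' t ∧ g J t = g J' t := by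
    intro J J' hl t ht
    have hsub : ∀ s, Par φ J s → Par φ J' s := by
      intro s hs
      rcases hl.2 with e | e
      · simpa [Par, IsPar, e] using hs
      · simp only [Par, IsPar, e, Function.iterate_one] at hs ⊢
        exact Function.iterate_fixed hs _
    refine ⟨hsub t ht, ?_⟩
    by_cases h0 : t = 0
    · simp [g, h0, a0]
    have := param_torus C φ hL (hA J) (hA J') hl.1 ht h0 (Par.one (J := J'))
    rw [mul_one, zpow_neg_one, zpow_neg_one] at this
    have h3 : g J' t⁻¹ = (g J t)⁻¹ := by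
      simp only [g, this, mul_div_assoc, div_self (h1 J'), mul_one]
    have h4 := gmul (hsub t ht).inv (hsub t ht)
    rw [inv_mul_cancel₀ h0, gone, h3] at h4
    exact ((eq_inv_of_mul_eq_one_right h4.symm).trans (inv_inv _)).symm
  have hσ : ∀ J t, Par φ J t → g J t = σ t := by
    intro J
    induction hL.reach J using Relation.ReflTransGen.head_induction_on with
    | refl => exact fun t _ => rfl
    | head hab _ ih =>
      intro t ht
      obtain ⟨h', e⟩ := gpow hab t ht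
      rw [e, ih t h']
  refine ⟨fun J => Units.mk0 (α J 1) (h1 J), σ, fun J => ⟨(hA J 1 Par.one).1.1, fun t ht => ⟨?_, ?_⟩⟩⟩
  · rw [(hA J t ht).1.2, ← hσ J t ht]
    simp only [g, Units.val_mk0, mul_div_cancel₀ _ (h1 J)]
  · rw [(hA J t ht).2.2]
    congr 1
    by_cases h0 : t = 0
    · subst h0
      obtain ⟨-, hb, eb⟩ := hA J 0 Par.zero
      rw [Y_zero, map_one] at eb
      rw [map_zero, mul_zero]
      exact (Y_eq_one C φ hb).1 eb.symm
    have h2 := (param_neg C φ hL (hA J) (t := -t⁻¹) ht.inv.neg (by simp [h0])).1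
    rw [inv_neg, inv_inv, neg_neg] at h2
    have h3 : α J (-t⁻¹) = α J 1 * -(σ t)⁻¹ := by
      rw [← map_inv₀, ← map_neg, ← hσ J _ ht.inv.neg]
      simp only [g, mul_div_cancel₀ _ (h1 J)]
    rw [h2, h3, Units.val_inv_eq_inv_val, Units.val_mk0, mul_neg, inv_neg, neg_neg, mul_inv, inv_inv]

end CfsgLib.TwistOut
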